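import Groth.Agent.Lib.SheafCoh.Sections
import Groth.Agent.Lib.KInj.Resolution
import Mathlib.Algebra.Homology.DerivedCategory.KInjective
import Mathlib.Algebra.Homology.DerivedCategory.FullyFaithful
import Mathlib.Algebra.Homology.SingleHomology
import Mathlib.CategoryTheory.Abelian.Refinements
import Mathlib.Algebra.Homology.Refinements

/-!
# Morphisms out of single complexes into a K-injective complex
-/

universe w v u

open CategoryTheory Limits HomologicalComplex

namespace GrothLib.HDU

variable {A : Type u} [Category.{v} A] [Abelian A]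

/-- A morphism out of a single complex in degree zero, given by a cycle. -/
noncomputable def ofCycle {X : A} {I : CochainComplex A ℤ} (z : X ⟶ I.X 0)
    (hz : z ≫ I.d 0 1 = 0) : (single A (ComplexShape.up ℤ) 0).obj X ⟶ I :=
  mkHomFromSingle z (fun k hk => by
    obtain rfl : (0 : ℤ) + 1 = k := hk
    simpa using hz)

lemma ofCycle_f {X : A} {I : CochainComplex A ℤ} (z : X ⟶ I.X 0) (hz : z ≫ I.d 0 1 = 0) :
    (ofCycle z hz).f 0 = (singleObjXSelf (ComplexShape.up ℤ) 0 X).hom ≫ z :=
  mkHomFromSingle_f z _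

lemma exists_ofCycle {X : A} {I : CochainComplex A ℤ}
    (φ : (single A (ComplexShape.up ℤ) 0).obj X ⟶ I) :
    ∃ (z : X ⟶ I.X 0) (hz : z ≫ I.d 0 1 = 0), φ = ofCycle z hz := by
  refine ⟨(singleObjXSelf (ComplexShape.up ℤ) 0 X).inv ≫ φ.f 0, ?_, ?_⟩
  · rw [Category.assoc, φ.comm 0 1]
    simp
  · refine from_single_hom_ext ?_
    rw [ofCycle_f, Iso.hom_inv_id_assoc]

lemma comp_ofCycle {X X' : A} {I : CochainComplex A ℤ} (g : X' ⟶ X) (z : X ⟶ I.X 0)
    (hz : z ≫ I.d 0 1 = 0) :
    (single A (ComplexShape.up ℤ) 0).map g ≫ ofCycle z hz =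
      ofCycle (g ≫ z) (by rw [Category.assoc, hz, comp_zero]) := by
  refine from_single_hom_ext ?_
  rw [comp_f, ofCycle_f, ofCycle_f]
  simp [single_map_f_self]

lemma exists_lift_epi {X : A} {I : CochainComplex A ℤ} (σ : X ⟶ I.homology 0) :
    ∃ (W : A) (p : W ⟶ X) (_ : Epi p) (z : W ⟶ I.X 0) (hz : z ≫ I.d 0 1 = 0),
      I.liftCycles z 1 (by simp) hz ≫ I.homologyπ 0 = p ≫ σ := by
  obtain ⟨W, p, hp, a, ha⟩ := surjective_up_to_refinements_of_epi (I.homologyπ 0) σ
  refine ⟨W, p, hp, a ≫ I.iCycles 0, by simp, ?_⟩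
  rw [ha]
  congr 1
  rw [← cancel_mono (I.iCycles 0), liftCycles_i]

lemma exists_boundary_epi {X : A} {I : CochainComplex A ℤ} (z : X ⟶ I.X 0)
    (hz : z ≫ I.d 0 1 = 0) (h : I.liftCycles z 1 (by simp) hz ≫ I.homologyπ 0 = 0) :
    ∃ (W : A) (p : W ⟶ X) (_ : Epi p) (t : W ⟶ I.X (-1)), t ≫ I.d (-1) 0 = p ≫ z := by
  obtain ⟨W, p, hp, t, ht⟩ :=
    (I.liftCycles_comp_homologyπ_eq_zero_iff_up_to_refinements (-1) 0 1 (by simp) (by simp) z hz).1 h
  exact ⟨W, p, hp, t, ht.symm⟩

variable [HasDerivedCategory.{w} A]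

/-- The functor placing an object in degree zero of the derived category. -/
noncomputable abbrev sgl (A : Type u) [Category.{v} A] [Abelian A] [HasDerivedCategory.{w} A] :
    A ⥤ DerivedCategory A :=
  single A (ComplexShape.up ℤ) 0 ⋙ DerivedCategory.Q

/-- `sgl` is the single functor in degree zero. -/
noncomputable def sglIso : DerivedCategory.singleFunctor A 0 ≅ sgl A :=
  DerivedCategory.singleFunctorIsoCompQ A 0

/-- The map induced in degree-zero homology by a morphism out of a single object. -/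
noncomputable def h0 {X : A} {L : DerivedCategory A}
    (f : DerivedCategory.Q.obj ((single A (ComplexShape.up ℤ) 0).obj X) ⟶ L) :
    X ⟶ (DerivedCategory.homologyFunctor A 0).obj L :=
  (singleObjHomologySelfIso (ComplexShape.up ℤ) 0 X).inv ≫
    (DerivedCategory.homologyFunctorFactors A 0).inv.app ((single A (ComplexShape.up ℤ) 0).obj X) ≫
      (DerivedCategory.homologyFunctor A 0).map f

lemma h0_comp {X : A} {L L' : DerivedCategory A}
    (f : DerivedCategory.Q.obj ((single A (ComplexShape.up ℤ) 0).obj X) ⟶ L) (g : L ⟶ L') :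
    h0 (f ≫ g) = h0 f ≫ (DerivedCategory.homologyFunctor A 0).map g := by
  simp [h0]

lemma h0_map_comp {X X' : A} {L : DerivedCategory A} (a : X' ⟶ X)
    (f : DerivedCategory.Q.obj ((single A (ComplexShape.up ℤ) 0).obj X) ⟶ L) :
    h0 (DerivedCategory.Q.map ((single A (ComplexShape.up ℤ) 0).map a) ≫ f) = a ≫ h0 f := by
  have h1 : homologyMap ((single A (ComplexShape.up ℤ) 0).map a) 0 ≫
      (DerivedCategory.homologyFunctorFactors A 0).inv.app ((single A (ComplexShape.up ℤ) 0).obj X) =
      (DerivedCategory.homologyFunctorFactors A 0).inv.app ((single A (ComplexShape.up ℤ) 0).obj X') ≫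
        (DerivedCategory.homologyFunctor A 0).map
          (DerivedCategory.Q.map ((single A (ComplexShape.up ℤ) 0).map a)) :=
    (DerivedCategory.homologyFunctorFactors A 0).inv.naturality ((single A (ComplexShape.up ℤ) 0).map a)
  have h2 : (singleObjHomologySelfIso (ComplexShape.up ℤ) 0 X').inv ≫
      homologyMap ((single A (ComplexShape.up ℤ) 0).map a) 0 =
        a ≫ (singleObjHomologySelfIso (ComplexShape.up ℤ) 0 X).inv := by
    rw [Iso.inv_comp_eq, ← Category.assoc, Iso.eq_comp_inv, singleObjHomologySelfIso_hom_naturality]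
  simp only [h0, Functor.map_comp]
  refine Eq.trans ?_ (congrArg (fun b => b ≫
    (DerivedCategory.homologyFunctorFactors A 0).inv.app ((single A (ComplexShape.up ℤ) 0).obj X) ≫
      (DerivedCategory.homologyFunctor A 0).map f) h2 |>.trans (Category.assoc _ _ _))
  refine Eq.trans ?_ (Category.assoc _ _ _).symm
  refine congrArg (fun b => (singleObjHomologySelfIso (ComplexShape.up ℤ) 0 X').inv ≫ b) ?_
  exact (Category.assoc _ _ _).symm.trans ((congrArg (fun b => b ≫
    (DerivedCategory.homologyFunctor A 0).map f) h1.symm).trans (Category.assoc _ _ _))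

lemma h0_add {X : A} {L : DerivedCategory A}
    (f g : DerivedCategory.Q.obj ((single A (ComplexShape.up ℤ) 0).obj X) ⟶ L) :
    h0 (f + g) = h0 f + h0 g := by
  unfold h0
  rw [Functor.map_add]
  erw [Preadditive.comp_add, Preadditive.comp_add]

lemma exists_ofCycle_Q {X : A} {I : CochainComplex A ℤ} [I.IsKInjective]
    (f : DerivedCategory.Q.obj ((single A (ComplexShape.up ℤ) 0).obj X) ⟶ DerivedCategory.Q.obj I) :
    ∃ (z : X ⟶ I.X 0) (hz : z ≫ I.d 0 1 = 0), f = DerivedCategory.Q.map (ofCycle z hz) := by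
  let e := DerivedCategory.quotientCompQhIso A
  obtain ⟨g, hg⟩ := (CochainComplex.IsKInjective.Qh_map_bijective
    ((HomotopyCategory.quotient A (ComplexShape.up ℤ)).obj
      ((single A (ComplexShape.up ℤ) 0).obj X)) I).surjective
    (e.hom.app ((single A (ComplexShape.up ℤ) 0).obj X) ≫ f ≫ e.inv.app I)
  obtain ⟨φ, rfl⟩ := (HomotopyCategory.quotient A (ComplexShape.up ℤ)).map_surjective g
  obtain ⟨z, hz, rfl⟩ := exists_ofCycle φ
  refine ⟨z, hz, ?_⟩
  have h1 := e.hom.naturality (ofCycle z hz)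
  have key : (e.hom.app ((single A (ComplexShape.up ℤ) 0).obj X) ≫ f ≫ e.inv.app I) ≫ e.hom.app I =
      e.hom.app ((single A (ComplexShape.up ℤ) 0).obj X) ≫ DerivedCategory.Q.map (ofCycle z hz) := by
    rw [← hg]
    exact h1
  rw [Category.assoc, Category.assoc, Iso.inv_hom_id_app] at key
  erw [Category.comp_id] at key
  exact (cancel_epi _).1 key

lemma Q_map_ofCycle_boundary {X : A} {I : CochainComplex A ℤ} (t : X ⟶ I.X (-1)) :
    DerivedCategory.Q.map (ofCycle (t ≫ I.d (-1) 0) (by simp)) = 0 := by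
  have h : Homotopy (ofCycle (t ≫ I.d (-1) 0) (by simp)) 0 :=
    { hom := fun i j => if hij : i = 0 ∧ j = -1 then
        (singleObjXIsoOfEq (ComplexShape.up ℤ) 0 X i hij.1).hom ≫ t ≫ (I.XIsoOfEq hij.2).inv else 0
      zero := fun i j hij => dif_neg (by
        rintro ⟨rfl, rfl⟩
        exact hij (by simp))
      comm := fun i => by
        by_cases hi : i = 0
        · subst hi
          rw [dNext_eq _ (show (ComplexShape.up ℤ).Rel 0 1 by simp),
            prevD_eq _ (show (ComplexShape.up ℤ).Rel (-1) 0 by simp), ofCycle_f]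
          simp [singleObjXSelf]
        · exact (isZero_single_obj_X (ComplexShape.up ℤ) 0 X i hi).eq_of_src _ _ }
  have := HomotopyCategory.eq_of_homotopy _ _ h
  have h1 := (DerivedCategory.quotientCompQhIso A).hom.naturality (ofCycle (t ≫ I.d (-1) 0) (by simp))
  have h3 : (HomotopyCategory.quotient A (ComplexShape.up ℤ) ⋙ DerivedCategory.Qh).map
      (ofCycle (t ≫ I.d (-1) 0) (by simp)) = 0 := by
    rw [Functor.comp_map, this, Functor.map_zero]
    exact Functor.map_zero _ _ _
  rw [h3, zero_comp] at h1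
  rw [← cancel_epi ((DerivedCategory.quotientCompQhIso A).hom.app
    ((single A (ComplexShape.up ℤ) 0).obj X)), ← h1, comp_zero]

lemma h0_Q_map_ofCycle {X : A} {I : CochainComplex A ℤ} (z : X ⟶ I.X 0) (hz : z ≫ I.d 0 1 = 0) :
    h0 (DerivedCategory.Q.map (ofCycle z hz)) ≫
        (DerivedCategory.homologyFunctorFactors A 0).hom.app I =
      I.liftCycles z 1 (by simp) hz ≫ I.homologyπ 0 := by
  simp only [h0, Category.assoc,
    DerivedCategory.homologyFunctorFactors_hom_naturality]
  erw [Iso.inv_hom_id_app_assoc]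
  rw [← singleObjCyclesSelfIso_inv_homologyπ, Category.assoc]
  erw [homologyπ_naturality]
  refine (Category.assoc _ _ _).symm.trans ?_
  congr 1
  rw [← cancel_mono (I.iCycles 0), Category.assoc, cyclesMap_i, liftCycles_i,
    singleObjCyclesSelfIso_inv_iCycles_assoc, ofCycle_f, Iso.inv_hom_id_assoc]

/-- Every object of the derived category is given by a K-injective complex. -/
lemma exists_kInjective_iso [IsGrothendieckAbelian.{v} A] (L : DerivedCategory A) :
    ∃ (I : CochainComplex A ℤ), I.IsKInjective ∧ Nonempty (DerivedCategory.Q.obj I ≅ L) := by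
  obtain ⟨I, i, hi, hI, -⟩ := KInj.exists_kInjective_resolution A (DerivedCategory.Q.objPreimage L)
  have : IsIso (DerivedCategory.Q.map i) := (DerivedCategory.isIso_Q_map_iff_quasiIso A i).2 hi
  exact ⟨I, hI, ⟨(asIso (DerivedCategory.Q.map i)).symm ≪≫ DerivedCategory.Q.objObjPreimageIso L⟩⟩

end GrothLib.HDU
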