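import Groth.Agent.Lib.KInj.Derived
import Mathlib.CategoryTheory.EssentiallySmall

/-!
# Derived categories of Grothendieck abelian categories are locally small
-/

universe v u

open CategoryTheory Limits

namespace GrothLib.HDU

variable (A : Type u) [Category.{v} A] [Abelian A] [IsGrothendieckAbelian.{v} A]

section

variable [HasDerivedCategory.{max u v} A]

theorem locallySmall_derivedCategory : LocallySmall.{v} (DerivedCategory A) :=
  ⟨fun X Y => small_of_injective
    (f := fun f : X ⟶ Y => (KInj.res A).map f) (Functor.map_injective _)⟩

end

/-- The derived category with morphisms in the universe of the morphisms of `A`. -/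
@[instance_reducible]
noncomputable def hasDerivedCategory : HasDerivedCategory.{v} A :=
  letI := HasDerivedCategory.standard A
  haveI := locallySmall_derivedCategory A
  { D := ShrinkHoms (DerivedCategory A)
    L := DerivedCategory.Q ⋙ (ShrinkHoms.equivalence (DerivedCategory A)).functor
    hL := Functor.IsLocalization.of_equivalence_target DerivedCategory.Q _ _
      (ShrinkHoms.equivalence (DerivedCategory A)) (Iso.refl _) }

end GrothLib.HDU
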