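import Groth.Agent.Lib.HDU.Sheaf
import Mathlib.Algebra.Homology.DerivedCategory.DerivabilityStructureInjectives
import Mathlib.Algebra.Homology.DerivedCategory.TStructure

/-!
# Degree-zero cohomology of objects concentrated in nonnegative degrees
-/

universe w v u

open CategoryTheory Limits HomologicalComplex Opposite

namespace GrothLib.HDU

section Abstract

variable {A : Type u} [Category.{v} A] [Abelian A] [EnoughInjectives A] [HasDerivedCategory.{w} A]

theorem h0_bijective (L : DerivedCategory A) [L.IsGE 0] (X : A) :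
    Function.Bijective (fun f : DerivedCategory.Q.obj ((single A (ComplexShape.up ℤ) 0).obj X) ⟶ L =>
      h0 f) := by
  obtain ⟨Y, hY, ⟨eY⟩⟩ := DerivedCategory.exists_iso_Q_obj_of_isGE L 0
  obtain ⟨I, g, hg, hI, hIge⟩ :=
    CochainComplex.Plus.modelCategoryQuillen.exists_quasiIso_injective Y 0
  have : I.IsKInjective := CochainComplex.isKInjective_of_injective I 0
  have : IsIso (DerivedCategory.Q.map g) :=
    (DerivedCategory.isIso_Q_map_iff_quasiIso A g).2 inferInstance
  let e : L ≅ DerivedCategory.Q.obj I := eY ≪≫ asIso (DerivedCategory.Q.map g)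
  have hz : IsZero (I.X (-1)) := CochainComplex.isZero_of_isStrictlyGE I 0 _ (by omega)
  have hπ : IsIso (I.homologyπ 0) :=
    I.isIso_homologyπ (-1) 0 (by simp) (hz.eq_of_src _ _)
  let fac := (DerivedCategory.homologyFunctorFactors A 0).hom.app I
  constructor
  · intro f f' h
    obtain ⟨z, hz', hf⟩ := exists_ofCycle_Q (f ≫ e.hom)
    obtain ⟨z', hz'', hf'⟩ := exists_ofCycle_Q (f' ≫ e.hom)
    have h1 : h0 (f ≫ e.hom) ≫ fac = h0 (f' ≫ e.hom) ≫ fac := by
      rw [h0_comp, h0_comp]
      exact congrArg (fun a => (a ≫ _) ≫ fac) h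
    rw [hf, hf', h0_Q_map_ofCycle, h0_Q_map_ofCycle] at h1
    replace h1 := (cancel_mono (I.homologyπ 0)).1 h1
    have h2 : z = z' := by
      have := congrArg (fun a => a ≫ I.iCycles 0) h1
      simpa using this
    subst h2
    rw [← cancel_mono e.hom, hf, hf']
  · intro σ
    let a : X ⟶ I.cycles 0 :=
      σ ≫ (DerivedCategory.homologyFunctor A 0).map e.hom ≫ fac ≫ (I.isoHomologyπ (-1) 0 (by simp) (hz.eq_of_src _ _)).inv
    refine ⟨DerivedCategory.Q.map (ofCycle (a ≫ I.iCycles 0) (by simp)) ≫ e.inv, ?_⟩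
    rw [← cancel_mono ((DerivedCategory.homologyFunctor A 0).map e.hom)]
    change h0 _ ≫ _ = _
    rw [← h0_comp, Category.assoc, e.inv_hom_id, Category.comp_id, ← cancel_mono fac,
      h0_Q_map_ofCycle]
    have : I.liftCycles (a ≫ I.iCycles 0) 1 (by simp) (by simp) = a := by
      rw [← cancel_mono (I.iCycles 0), liftCycles_i]
    rw [this]
    simp only [a, Category.assoc]
    erw [← I.isoHomologyπ_hom (-1) 0 (by simp) (hz.eq_of_src _ _), Iso.inv_hom_id, Category.comp_id]
    rfl

theorem eq_zero_of_isGE_one (L : DerivedCategory A) [L.IsGE 1] (X : A)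
    (f : (DerivedCategory.singleFunctor A 0).obj X ⟶ L) : f = 0 :=
  DerivedCategory.TStructure.t.zero f 0 1 (by omega)

theorem subsingleton_shift_of_neg (L : DerivedCategory A) [L.IsGE 0] (X : A) (i : ℤ) (hi : i < 0) :
    Subsingleton ((DerivedCategory.singleFunctor A 0).obj X ⟶
      (shiftFunctor (DerivedCategory A) i).obj L) := by
  have h : ((shiftFunctor (DerivedCategory A) i).obj L).IsGE (-i) :=
    DerivedCategory.TStructure.t.isGE_shift L 0 i (-i) (by omega)
  have : ((shiftFunctor (DerivedCategory A) i).obj L).IsGE 1 :=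
    DerivedCategory.TStructure.t.isGE_of_ge _ 1 (-i) (by omega)
  exact ⟨fun f f' => (eq_zero_of_isGE_one _ X f).trans (eq_zero_of_isGE_one _ X f').symm⟩

end Abstract

open GrothLib.SheafCoh

variable {C : Type u} [SmallCategory C] {J : GrothendieckTopology C}
  [HasDerivedCategory.{u} (Sheaf J AddCommGrpCat.{u})]

instance isIso_toH0_app (L : DerivedCategory (Sheaf J AddCommGrpCat.{u})) [L.IsGE 0] (U : Cᵒᵖ) :
    IsIso ((toH0 L).app U) :=
  (ConcreteCategory.isIso_iff_bijective _).2
    ((homFreeY (H0 L) U.unop).bijective.comp (h0_bijective L (freeY J U.unop)))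

/-- For an object in nonnegative degrees, `U ↦ Hom(ℤ[U], L)` is the sheaf `H^0(L)`. -/
noncomputable def homPshIsoH0 (L : DerivedCategory (Sheaf J AddCommGrpCat.{u})) [L.IsGE 0] :
    homPsh L ≅ (H0 L).obj :=
  NatIso.ofComponents (fun U => asIso ((toH0 L).app U)) (fun g => (toH0 L).naturality g)

end GrothLib.HDU
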