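import Groth.Agent.Lib.HDU.LimHom
import Groth.Agent.S0943

/-!
# Derived limits of systems of sheaves which are acyclic on a basis
-/

universe u

open CategoryTheory Limits Pretriangulated Opposite DerivedCategory Abelian

namespace GrothLib.HDU

open GrothLib.SheafCoh GrothLib.SiteDer

variable {C : Type u} [SmallCategory C] {J : GrothendieckTopology C}
  [HasDerivedCategory.{u} (Sheaf J AddCommGrpCat.{u})]

lemma subsingleton_HU_of_isZero {M : Sheaf J AddCommGrpCat.{u}} (hM : IsZero M) (p : ℕ) (U : C) :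
    Subsingleton (CohSite.HU M p U) :=
  @Equiv.subsingleton _ _ (HUext M p U).toEquiv
    ⟨fun x y => by
      have h : ∀ z : Ext.{u} (freeY J U) M p, z = 0 := fun z => by
        rw [← Ext.comp_mk₀_id z, (IsZero.iff_id_eq_zero M).1 hM, Ext.mk₀_zero, Ext.comp_zero]
      rw [h x, h y]⟩

/-- The limit of a system of sheaves acyclic on a basis is a derived limit, and is acyclic on it. -/
theorem isRlim_limit_of_acyclic (F : ℕ → Sheaf J AddCommGrpCat.{u}) (t : ∀ n, F (n + 1) ⟶ F n)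
    [HasProduct fun n => (singleFunctor (Sheaf J AddCommGrpCat.{u}) 0).obj (F n)] (B : Set C)
    (hB : ∀ U : C, ∃ (ι : Type u) (Y : ι → C) (f : ∀ i, Y i ⟶ U), Sieve.ofArrows Y f ∈ J U ∧ ∀ i, Y i ∈ B)
    (h1 : ∀ U ∈ B, ∀ (p n : ℕ), Subsingleton (CohSite.HU (F n) (p + 1) U))
    (h2 : ∀ U ∈ B, CohCx.LimOneIsZero (fun n => (F n).obj.obj (op U))
      (fun n => ((t n).hom.app (op U)).hom)) :
    DCoh.IsRlim (fun n => (singleFunctor _ 0).obj (F n))
      (fun n => (singleFunctor _ 0).map (t n))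
      ((singleFunctor _ 0).obj (limit (CohCx.opSequence F t))) ∧
    ∀ U ∈ B, ∀ p : ℕ, Subsingleton (CohSite.HU (limit (CohCx.opSequence F t)) (p + 1) U) := by
  let A := Sheaf J AddCommGrpCat.{u}
  let K : ℕ → DerivedCategory A := fun n => (singleFunctor A 0).obj (F n)
  let s : ∀ n, K (n + 1) ⟶ K n := fun n => (singleFunctor A 0).map (t n)
  obtain ⟨L, a, c, hc⟩ := distinguished_cocone_triangle₁
    (Pi.lift fun n => Pi.π K n - Pi.π K (n + 1) ≫ s n)
  have hL : DCoh.IsRlim K s L := ⟨a, c, hc⟩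
  let η := singleFunctorCompHomologyFunctorIso A 0
  have hz : ∀ (n : ℕ) (q : ℤ), q ≠ 0 → IsZero (CohCx.HD (K n) q) := fun n q hq => by
    rcases lt_or_gt_of_ne hq with hq | hq
    · exact isZero_of_isGE _ 0 q hq
    · exact isZero_of_isLE _ 0 q hq
  have h1' : ∀ U ∈ B, ∀ (p : ℕ) (q : ℤ) (n : ℕ),
      Subsingleton (CohSite.HU (CohCx.HD (K n) q) (p + 1) U) := fun U hU p q n => by
    by_cases hq : q = 0
    · subst hq
      have := h1 U hU p n
      exact @Equiv.subsingleton _ _ (((Sheaf.cohomologyPresheafFunctor J (p + 1)).mapIso (η.app (F n))).app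
        (op U)).addCommGroupIsoToAddEquiv.toEquiv this
    · exact subsingleton_HU_of_isZero (hz n q hq) _ U
  have h2' : ∀ U ∈ B, ∀ (q : ℤ), CohCx.LimOneIsZero (fun n => (CohCx.HD (K n) q).obj.obj (op U))
      (fun n => (((homologyFunctor A q).map (s n)).hom.app (op U)).hom) := fun U hU q b => by
    by_cases hq : q = 0
    · subst hq
      let e : ∀ n, (CohCx.HD (K n) 0).obj.obj (op U) ≃+ (F n).obj.obj (op U) := fun n =>
        (((sheafToPresheaf J AddCommGrpCat.{u}).mapIso (η.app (F n))).app (op U)).addCommGroupIsoToAddEquiv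
      have he : ∀ n x, e n ((((homologyFunctor A 0).map (s n)).hom.app (op U)).hom x) =
          ((t n).hom.app (op U)).hom (e (n + 1) x) := fun n x =>
        ConcreteCategory.congr_hom (NatTrans.congr_app (congrArg (·.hom) (η.hom.naturality (t n))) (op U)) x
      obtain ⟨w, hw⟩ := h2 U hU fun n => e n (b n)
      refine ⟨fun n => (e n).symm (w n), funext fun n => (e n).injective ?_⟩
      rw [map_sub, AddEquiv.apply_symm_apply, he, AddEquiv.apply_symm_apply]
      exact congrFun hw n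
    · refine ⟨0, funext fun n => ?_⟩
      have : Subsingleton ((CohCx.HD (K n) q).obj.obj (op U)) :=
        AddCommGrpCat.subsingleton_of_isZero
          (((sheafToPresheaf J AddCommGrpCat.{u}) ⋙ (evaluation _ _).obj (op U)).map_isZero (hz n q hq))
      exact Subsingleton.elim _ _
  have hq : ∀ q : ℤ, q ≠ 0 → IsZero (CohCx.HD L q) := fun q hq => by
    obtain ⟨e⟩ := nonempty_iso_limit K s hL B hB h1' h2' q
    refine IsZero.of_iso ?_ e
    rw [IsZero.iff_id_eq_zero]
    exact limit.hom_ext fun ⟨n⟩ => (hz n q hq).eq_of_tgt _ _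
  have : L.IsGE 0 := (isGE_iff L 0).2 fun i hi => hq i (ne_of_lt hi)
  have : L.IsLE 0 := (isLE_iff L 0).2 fun i hi => hq i (ne_of_gt hi)
  obtain ⟨M, ⟨e⟩⟩ := exists_iso_singleFunctor_obj_of_isGE_of_isLE L 0
  obtain ⟨e0⟩ := nonempty_iso_limit K s hL B hB h1' h2' 0
  let τ : CohCx.opSequence (fun n => CohCx.HD (K n) 0) (fun n => (homologyFunctor A 0).map (s n)) ⟶
      CohCx.opSequence F t :=
    NatTrans.ofOpSequence (fun n => η.hom.app (F n)) (fun n => by
      rw [Functor.ofOpSequence_map_homOfLE_succ, Functor.ofOpSequence_map_homOfLE_succ]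
      exact η.hom.naturality (t n))
  have : ∀ n, IsIso (τ.app n) := fun n => (inferInstance : IsIso (η.hom.app (F n.unop)))
  let eM : M ≅ limit (CohCx.opSequence F t) :=
    (η.app M).symm ≪≫ (homologyFunctor A 0).mapIso e.symm ≪≫ e0 ≪≫
      HasLimit.isoOfNatIso (@asIso _ _ _ _ τ (NatIso.isIso_of_isIso_app τ))
  let φ := (singleFunctor A 0).mapIso eM.symm ≪≫ e.symm
  have hM : DCoh.IsRlim K s ((singleFunctor A 0).obj (limit (CohCx.opSequence F t))) := by
    refine ⟨φ.hom ≫ a, c ≫ φ.inv⟦(1 : ℤ)⟧', isomorphic_distinguished _ hc _ ?_⟩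
    refine Triangle.isoMk _ _ φ (Iso.refl _) (Iso.refl _) ?_ ?_ ?_
    · exact Category.comp_id _
    · exact (Category.comp_id _).trans (Category.id_comp _).symm
    · change (c ≫ φ.inv⟦(1 : ℤ)⟧') ≫ φ.hom⟦(1 : ℤ)⟧' = 𝟙 _ ≫ c
      rw [Category.assoc, ← Functor.map_comp, φ.inv_hom_id, CategoryTheory.Functor.map_id]
      simp
  refine ⟨hM, fun U hU p => ?_⟩
  obtain ⟨a', c', hc'⟩ := hM
  have hvia : CohCx.IsRlimVia K s ((singleFunctor A 0).obj (limit (CohCx.opSequence F t)))
      (fun n => a' ≫ Pi.π K n) := ⟨c', by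
    rw [show Pi.lift (fun n => a' ≫ Pi.π K n) = a' from Pi.hom_ext _ _ fun n => by simp]
    exact hc'⟩
  let X := (singleFunctor A 0).obj (freeY J U)
  have hvan : ∀ (q : ℕ) (n : ℕ) (x : X ⟶ (shiftFunctor _ ((q + 1 : ℕ) : ℤ)).obj (K n)), x = 0 :=
    fun q n x => by
      have : Subsingleton (Ext (freeY J U) (F n) (q + 1)) :=
        @Equiv.subsingleton _ _ (HUext (F n) (q + 1) U).toEquiv.symm (h1 U hU q n)
      have h := Subsingleton.elim ((Ext.homEquiv (X := freeY J U) (Y := F n)).symm x)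
        (Ext.homEquiv.symm 0)
      exact Ext.homEquiv.symm.injective h
  have hsurj : ∀ (k : ℤ) (q : ℕ), k = (q : ℤ) →
      Function.Surjective fun (w : ∀ n, X ⟶ (shiftFunctor _ k).obj (K n)) (n : ℕ) =>
        w n - w (n + 1) ≫ (shiftFunctor _ k).map (s n) := by
    rintro k q rfl b
    cases q with
    | succ q => exact ⟨0, funext fun n => (hvan q n _).trans (hvan q n _).symm⟩
    | zero =>
      let σ : ∀ n, (F n).obj.obj (op U) ≃ (X ⟶ (shiftFunctor _ ((0 : ℕ) : ℤ)).obj (K n)) := fun n =>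
        (homFreeY (F n) U).toEquiv.symm.trans
          ((Ext.homEquiv₀ (X := freeY J U) (Y := F n)).symm.trans Ext.homEquiv)
      have hσ : ∀ n x y, σ n (x - ((t n).hom.app (op U)).hom y) =
          σ n x - σ (n + 1) y ≫ (shiftFunctor _ ((0 : ℕ) : ℤ)).map (s n) := fun n x y => by
        obtain ⟨φ, rfl⟩ := (homFreeY (F n) U).surjective x
        obtain ⟨ψ, rfl⟩ := (homFreeY (F (n + 1)) U).surjective y
        rw [← homFreeY_comp, ← map_sub]
        simp only [σ, Equiv.trans_apply, Ext.homEquiv₀_symm_apply]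
        erw [AddEquiv.symm_apply_apply, AddEquiv.symm_apply_apply, AddEquiv.symm_apply_apply]
        change (Ext.mk₀ (φ - ψ ≫ t n)).hom = (Ext.mk₀ φ).hom - (Ext.mk₀ ψ).hom ≫ _
        rw [← ShiftedHom.comp_mk₀ (Ext.mk₀ ψ).hom ((0 : ℕ) : ℤ) Nat.cast_zero (s n),
          ← Ext.mk₀_hom (t n), ← Ext.comp_hom _ _ (add_zero 0), Ext.mk₀_comp_mk₀]
        simp [ShiftedHom.mk₀, Preadditive.sub_comp]
      obtain ⟨w, hw⟩ := h2 U hU fun n => (σ n).symm (b n)
      exact ⟨fun n => σ n (w n), funext fun n => (hσ n _ _).symm.trans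
        ((congrArg (σ n) (congrFun hw n)).trans ((σ n).apply_symm_apply _))⟩
  refine @Equiv.subsingleton _ _ (HUext _ (p + 1) U).toEquiv ⟨fun x y => Ext.homEquiv.injective ?_⟩
  have hzero : ∀ z : X ⟶ (shiftFunctor _ ((p + 1 : ℕ) : ℤ)).obj
      ((singleFunctor A 0).obj (limit (CohCx.opSequence F t))), z = 0 := fun z =>
    Groth.Agent.S0943.eq_zero_of_limOne K s _ hvia X _ (hsurj _ p (by omega)) z
      (fun n => hvan p n _)
  exact (hzero _).trans (hzero _).symm

end GrothLib.HDU
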