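import Groth.Agent.Lib.HDU.LocGen
import Mathlib.Algebra.Homology.Refinements
import Mathlib.Algebra.Homology.ShortComplex.Ab
import Mathlib.CategoryTheory.Functor.OfSequence
import Mathlib.CategoryTheory.Limits.Types.Limits
import Mathlib.CategoryTheory.Sites.Limits

/-!
# Cohomology sheaves of a termwise limit of complexes of sheaves
-/

universe u

open CategoryTheory Limits Opposite HomologicalComplex

namespace GrothLib.LimCx

section Ab

variable {K L : CochainComplex AddCommGrpCat.{u} ℤ}

lemma exists_cycle {j k : ℤ} (hk : j + 1 = k) (x : K.X j) (hx : (K.d j k).hom x = 0) :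
    ∃ z : K.cycles j, (K.iCycles j).hom z = x := by
  have h : (ShortComplex.mk (K.iCycles j) (K.d j k) (K.iCycles_d j k)).Exact :=
    ShortComplex.exact_of_f_is_kernel _
      (K.cyclesIsKernel j k ((ComplexShape.up ℤ).next_eq' hk))
  exact (ShortComplex.ab_exact_iff _).1 h x hx

/-- The cohomology class of a cocycle. -/
noncomputable def cls {j k : ℤ} (hk : j + 1 = k) (x : K.X j) (hx : (K.d j k).hom x = 0) :
    K.homology j :=
  (K.homologyπ j).hom (exists_cycle hk x hx).choose

lemma iCycles_injective (j : ℤ) : Function.Injective (K.iCycles j).hom :=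
  (AddCommGrpCat.mono_iff_injective _).1 inferInstance

lemma cls_eq {j k : ℤ} (hk : j + 1 = k) (x : K.X j) (hx : (K.d j k).hom x = 0) (z : K.cycles j)
    (hz : (K.iCycles j).hom z = x) : cls hk x hx = (K.homologyπ j).hom z :=
  congrArg (K.homologyπ j).hom (iCycles_injective j ((exists_cycle hk x hx).choose_spec.trans hz.symm))

lemma cls_surjective {j k : ℤ} (hk : j + 1 = k) (c : K.homology j) :
    ∃ x hx, cls (K := K) hk x hx = c := by
  obtain ⟨z, rfl⟩ := (AddCommGrpCat.epi_iff_surjective _).1 (inferInstance : Epi (K.homologyπ j)) c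
  exact ⟨_, ConcreteCategory.congr_hom (K.iCycles_d j k) z, cls_eq hk _ _ z rfl⟩

lemma cls_map (φ : K ⟶ L) {j k : ℤ} (hk : j + 1 = k) (x : K.X j) (hx : (K.d j k).hom x = 0)
    (hx' : (L.d j k).hom ((φ.f j).hom x) = 0 :=
      (ConcreteCategory.congr_hom (φ.comm j k) x).trans ((congrArg (φ.f k).hom hx).trans (map_zero (φ.f k).hom))) :
    (homologyMap φ j).hom (cls hk x hx) = cls hk ((φ.f j).hom x) hx' := by
  obtain ⟨z, hz⟩ := exists_cycle hk x hx
  rw [cls_eq hk x hx z hz, cls_eq hk _ hx' ((cyclesMap φ j).hom z)]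
  · exact ConcreteCategory.congr_hom (homologyπ_naturality φ j) z
  · exact (ConcreteCategory.congr_hom (cyclesMap_i φ j) z).trans (congrArg (φ.f j).hom hz)

lemma d_map (φ : K ⟶ L) (j k : ℤ) (x : K.X j) :
    (L.d j k).hom ((φ.f j).hom x) = (φ.f k).hom ((K.d j k).hom x) :=
  ConcreteCategory.congr_hom (φ.comm j k) x

lemma cls_sub {j k : ℤ} (hk : j + 1 = k) (x y : K.X j) (hx : (K.d j k).hom x = 0)
    (hy : (K.d j k).hom y = 0) (hxy : (K.d j k).hom (x - y) = 0) :
    cls hk (x - y) hxy = cls hk x hx - cls hk y hy := by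
  obtain ⟨a, ha⟩ := exists_cycle hk x hx
  obtain ⟨b, hb⟩ := exists_cycle hk y hy
  rw [cls_eq hk _ _ a ha, cls_eq hk _ _ b hb, cls_eq hk _ _ (a - b) (by rw [map_sub, ha, hb]), map_sub]

lemma cls_eq_zero_iff {i j k : ℤ} (hi : i + 1 = j) (hk : j + 1 = k) (x : K.X j)
    (hx : (K.d j k).hom x = 0) : cls hk x hx = 0 ↔ ∃ y, (K.d i j).hom y = x := by
  obtain ⟨z, hz⟩ := exists_cycle hk x hx
  rw [cls_eq hk x hx z hz]
  have h : (ShortComplex.mk (K.toCycles i j) (K.homologyπ j) (K.toCycles_comp_homologyπ i j)).Exact :=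
    ShortComplex.exact_of_g_is_cokernel _
      (K.homologyIsCokernel i j ((ComplexShape.up ℤ).prev_eq' hi))
  constructor
  · intro h0
    obtain ⟨y, hy⟩ := (ShortComplex.ab_exact_iff _).1 h z h0
    exact ⟨y, (ConcreteCategory.congr_hom (K.toCycles_i i j) y).symm.trans
      ((congrArg (K.iCycles j).hom hy).trans hz)⟩
  · rintro ⟨y, hy⟩
    have : (K.toCycles i j).hom y = z := iCycles_injective j
      ((ConcreteCategory.congr_hom (K.toCycles_i i j) y).trans (hy.trans hz.symm))
    rw [← this]
    exact ConcreteCategory.congr_hom (K.toCycles_comp_homologyπ i j) y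

end Ab

section Tower

variable {G : ℕᵒᵖ ⥤ CochainComplex AddCommGrpCat.{u} ℤ} (c : Cone G)

/-- The transition maps. -/
abbrev step (G : ℕᵒᵖ ⥤ CochainComplex AddCommGrpCat.{u} ℤ) (n : ℕ) : G.obj (op (n + 1)) ⟶ G.obj (op n) :=
  G.map (homOfLE (n.le_add_right 1)).op

/-- The projections of a cone, typed with source its apex. -/
abbrev proj (n : ℕ) : c.pt ⟶ G.obj (op n) := c.π.app (op n)

lemma cone_w_apply {n n' : ℕ} (h : n ≤ n') (j : ℤ) (x : c.pt.X j) :
    ((G.map (homOfLE h).op).f j).hom (((proj c n').f j).hom x) =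
      ((proj c n).f j).hom x :=
  ConcreteCategory.congr_hom (congrArg (fun φ : c.pt ⟶ G.obj (op n) => φ.f j) (c.w (homOfLE h).op)) x

variable (a b m m' : ℤ) (hab : a + 1 = b) (hbm : b + 1 = m) (hm : m + 1 = m') (n₀ : ℕ)
  (hext : ∀ (j : ℤ) (x : c.pt.X j), (∀ n, ((proj c n).f j).hom x = 0) → x = 0)
  (hlift : ∀ (j : ℤ) (s : ∀ n, (G.obj (op n)).X j),
    (∀ n, ((step G n).f j).hom (s (n + 1)) = s n) → ∃ x, ∀ n, ((proj c n).f j).hom x = s n)
  (ha : CohCx.LimOneIsZero (fun n => (G.obj (op n)).X a) (fun n => ((step G n).f a).hom))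
  (ha' : CohCx.LimOneIsZero (fun n => (G.obj (op n)).X b) (fun n => ((step G n).f b).hom))
  (hb : CohCx.LimOneIsZero (fun n => (G.obj (op n)).homology b)
    (fun n => (homologyMap (step G n) b).hom))
  (hc : ∀ (n : ℕ) (h : n₀ ≤ n), Function.Bijective (homologyMap (G.map (homOfLE h).op) m).hom)

lemma homologyMap_map_trans {n n' n'' : ℕ} (h : n ≤ n') (h' : n' ≤ n'') (j : ℤ)
    (x : (G.obj (op n'')).homology j) :
    (homologyMap (G.map (homOfLE (h.trans h')).op) j).hom x =
      (homologyMap (G.map (homOfLE h).op) j).hom ((homologyMap (G.map (homOfLE h').op) j).hom x) := by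
  have : G.map (homOfLE (h.trans h')).op = G.map (homOfLE h').op ≫ G.map (homOfLE h).op := by
    rw [← G.map_comp]
    rfl
  rw [this, homologyMap_comp]
  rfl

include hab hbm hm hext hlift ha hb hc in
theorem sect_injective (x : c.pt.X m) (hx : (c.pt.d m m').hom x = 0) (y₀ : (G.obj (op n₀)).X b)
    (h₀ : ((G.obj (op n₀)).d b m).hom y₀ = ((proj c n₀).f m).hom x) :
    ∃ y, (c.pt.d b m).hom y = x := by
  have hcyc : ∀ n, ((G.obj (op n)).d m m').hom (((proj c n).f m).hom x) = 0 := fun n => by
    rw [d_map, hx, map_zero]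
  have hy : ∀ n, ∃ y, ((G.obj (op n)).d b m).hom y = ((proj c n).f m).hom x := fun n => by
    rw [← cls_eq_zero_iff hbm hm _ (hcyc n)]
    have hM : cls hm _ (hcyc (max n n₀)) = 0 := (hc _ (le_max_right n n₀)).1
      (((cls_map (G.map (homOfLE (le_max_right n n₀)).op) hm _ (hcyc _)).trans
        ((cls_eq_zero_iff hbm hm _ _).2
          ⟨y₀, h₀.trans (cone_w_apply c (le_max_right n n₀) m x).symm⟩)).trans (map_zero _).symm)
    have := (cls_map (G.map (homOfLE (le_max_left n n₀)).op) hm _ (hcyc _)).symm.trans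
      ((congrArg _ hM).trans (map_zero _))
    refine Eq.trans ?_ this
    congr 1
    exact (cone_w_apply c (le_max_left n n₀) m x).symm
  choose y hy using hy
  let e : ∀ n, (G.obj (op n)).X b := fun n => ((step G n).f b).hom (y (n + 1)) - y n
  have he : ∀ n, ((G.obj (op n)).d b m).hom (e n) = 0 := fun n => by
    rw [map_sub, d_map, hy, hy, cone_w_apply c (n.le_add_right 1), sub_self]
  obtain ⟨h, hh⟩ := hb fun n => cls hbm (e n) (he n)
  choose z hz hzh using fun n => cls_surjective hbm (h n)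
  have hw : ∀ n, ∃ w, ((G.obj (op n)).d a b).hom w =
      e n - (z n - ((step G n).f b).hom (z (n + 1))) := fun n => by
    have h1 : ((G.obj (op n)).d b m).hom (((step G n).f b).hom (z (n + 1))) = 0 := by
      rw [d_map, hz, map_zero]
    have h2 : ((G.obj (op n)).d b m).hom (z n - ((step G n).f b).hom (z (n + 1))) = 0 := by
      rw [map_sub, hz, h1, sub_zero]
    have h3 : ((G.obj (op n)).d b m).hom (e n - (z n - ((step G n).f b).hom (z (n + 1)))) = 0 := by
      rw [map_sub, he, h2, sub_zero]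
    refine (cls_eq_zero_iff hab hbm _ h3).1 ?_
    rw [cls_sub hbm _ _ (he n) h2, cls_sub hbm _ _ (hz n) h1,
      ← cls_map (step G n) hbm (z (n + 1)) (hz (n + 1)) h1, hzh, hzh, sub_eq_zero]
    exact (congrFun hh n).symm
  choose w hw using hw
  obtain ⟨v, hv⟩ := ha w
  let s : ∀ n, (G.obj (op n)).X b := fun n => y n + z n + ((G.obj (op n)).d a b).hom (v n)
  obtain ⟨y', hy'⟩ := hlift b s fun n => by
    have hv' : w n = v n - ((step G n).f a).hom (v (n + 1)) := (congrFun hv n).symm
    have := hw n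
    rw [hv', map_sub, d_map] at this
    simp only [s, map_add]
    rw [sub_eq_iff_eq_add] at this
    simp only [e] at this
    rw [this]
    abel
  refine ⟨y', sub_eq_zero.1 (hext m _ fun n => ?_)⟩
  rw [map_sub, ← d_map, hy', sub_eq_zero]
  simp only [s, map_add, hy, hz, add_zero]
  rw [← ConcreteCategory.comp_apply, (G.obj (op n)).d_comp_d]
  simp

include hbm hm hext hlift ha' hc in
theorem sect_surjective (y : (G.obj (op n₀)).X m) (hy : ((G.obj (op n₀)).d m m').hom y = 0) :
    ∃ x, (c.pt.d m m').hom x = 0 ∧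
      ∃ w, ((proj c n₀).f m).hom x = y + ((G.obj (op n₀)).d b m).hom w := by
  choose pre hpre using fun (n : ℕ) (h : n₀ ≤ n) => (hc n h).2 (cls hm y hy)
  let C : ∀ n, (G.obj (op n)).homology m := fun n =>
    (homologyMap (G.map (homOfLE (le_max_left n n₀)).op) m).hom (pre _ (le_max_right n n₀))
  have hC : ∀ n, (homologyMap (step G n) m).hom (C (n + 1)) = C n := fun n => by
    have hle : max n n₀ ≤ max (n + 1) n₀ := max_le_max (n.le_add_right 1) le_rfl
    have h1 : (homologyMap (G.map (homOfLE hle).op) m).hom (pre _ (le_max_right (n + 1) n₀)) =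
        pre _ (le_max_right n n₀) := (hc _ (le_max_right n n₀)).1 (by
      rw [← homologyMap_map_trans, hpre, hpre])
    simp only [C, step]
    rw [← h1, ← homologyMap_map_trans, ← homologyMap_map_trans]
  choose x hx hxC using fun n => cls_surjective hm (C n)
  have hw : ∀ n, ∃ w, ((G.obj (op n)).d b m).hom w = ((step G n).f m).hom (x (n + 1)) - x n := fun n => by
    have h1 : ((G.obj (op n)).d m m').hom (((step G n).f m).hom (x (n + 1))) = 0 := by
      rw [d_map, hx, map_zero]
    refine (cls_eq_zero_iff hbm hm _ (by rw [map_sub, h1, hx, sub_zero])).1 ?_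
    rw [cls_sub hm _ _ h1 (hx n), ← cls_map (step G n) hm _ (hx (n + 1)) h1, hxC, hxC, hC, sub_self]
  choose w hw using hw
  obtain ⟨v, hv⟩ := ha' w
  let s : ∀ n, (G.obj (op n)).X m := fun n => x n + ((G.obj (op n)).d b m).hom (v n)
  obtain ⟨x', hx'⟩ := hlift m s fun n => by
    have hv' : w n = v n - ((step G n).f b).hom (v (n + 1)) := (congrFun hv n).symm
    have := hw n
    rw [hv', map_sub, d_map] at this
    simp only [s, map_add]
    rw [eq_sub_iff_add_eq] at this
    rw [← this]
    abel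
  have hdd : ∀ n (v : (G.obj (op n)).X b),
      ((G.obj (op n)).d m m').hom (((G.obj (op n)).d b m).hom v) = 0 := fun n v => by
    rw [← ConcreteCategory.comp_apply, (G.obj (op n)).d_comp_d]
    simp
  refine ⟨x', hext m' _ fun n => ?_, ?_⟩
  · rw [← d_map, hx']
    simp [s, hx, hdd]
  · obtain ⟨e, he⟩ := (cls_eq_zero_iff hbm hm (x n₀ - y) (by rw [map_sub, hx, hy, sub_zero])).1 (by
      rw [cls_sub hm _ _ (hx n₀) hy, hxC, sub_eq_zero]
      exact (congrArg (homologyMap (G.map (homOfLE (le_max_left n₀ n₀)).op) m).hom rfl).trans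
        (hpre _ (le_max_right n₀ n₀)))
    refine ⟨e + v n₀, ?_⟩
    rw [hx', map_add, he]
    simp only [s]
    abel

end Tower

section Sheaf

open GrothLib.SheafCoh GrothLib.SiteDer GrothLib.HDU

variable {C : Type u} [SmallCategory C] {J : GrothendieckTopology C}

set_option maxHeartbeats 400000 in
/-- A map of complexes of sheaves which is bijective on cohomology of sections over a covering
class of objects is bijective on cohomology sheaves. -/
theorem isIso_homologyMap_of_sections {L K : CochainComplex (Sheaf J AddCommGrpCat.{u}) ℤ}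
    (φ : L ⟶ K) (B : Set C)
    (hB : ∀ U : C, ∃ (ι : Type u) (Y : ι → C) (f : ∀ i, Y i ⟶ U), Sieve.ofArrows Y f ∈ J U ∧ ∀ i, Y i ∈ B)
    (b m m' : ℤ) (hbm : b + 1 = m) (hm : m + 1 = m')
    (hinj : ∀ U ∈ B, ∀ x : (L.X m).obj.obj (op U), ((L.d m m').hom.app (op U)).hom x = 0 →
      ∀ y : (K.X b).obj.obj (op U),
        ((K.d b m).hom.app (op U)).hom y = ((φ.f m).hom.app (op U)).hom x →
        ∃ y', ((L.d b m).hom.app (op U)).hom y' = x)
    (hsurj : ∀ U ∈ B, ∀ y : (K.X m).obj.obj (op U), ((K.d m m').hom.app (op U)).hom y = 0 →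
      ∃ x, ((L.d m m').hom.app (op U)).hom x = 0 ∧
        ∃ w, ((φ.f m).hom.app (op U)).hom x = y + ((K.d b m).hom.app (op U)).hom w) :
    IsIso (homologyMap φ m) := by
  have hG := isLocGen_free J
  have hbm' : (ComplexShape.up ℤ).prev m = b := (ComplexShape.up ℤ).prev_eq' hbm
  have hm' : (ComplexShape.up ℤ).next m = m' := (ComplexShape.up ℤ).next_eq' hm
  have : Mono (homologyMap φ m) := by
    refine hG.mono _ fun U g hg => hG.sep g ?_
    have hP : ∀ (U' : C) (g' : freeY J U' ⟶ L.homology m), ∀ ⦃V W : C⦄ (f : V ⟶ U') (k : W ⟶ V),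
        (freeYFunctor J).map f ≫ g' = 0 → (freeYFunctor J).map (k ≫ f) ≫ g' = 0 := fun _ _ V W f k h => by
      rw [Functor.map_comp, Category.assoc, h, comp_zero]
    obtain ⟨S, hS, hl⟩ := hG.lift (L.homologyπ m) g
    refine Locally.trans (hP U g) hS fun V f hf => ?_
    obtain ⟨h, hh⟩ := hl f hf
    have h1 : (h ≫ cyclesMap φ m) ≫ K.homologyπ m = 0 :=
      (Category.assoc _ _ _).trans ((congrArg (fun e => h ≫ e) (homologyπ_naturality φ m).symm).trans
        ((Category.assoc _ _ _).symm.trans ((congrArg (fun e => e ≫ homologyMap φ m) hh).trans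
          ((Category.assoc _ _ _).trans ((congrArg _ hg).trans comp_zero)))))
    obtain ⟨A', π, hπ, y, hy⟩ := (K.comp_homologyπ_eq_zero_iff_up_to_refinements b m hbm' _).1 h1
    obtain ⟨T, hT, hl'⟩ := hG.lift π (𝟙 (freeY J V))
    refine Locally.trans (fun V W a k h => by rw [Category.assoc]; exact hP U g _ k h) hT
      fun W k hk => ?_
    obtain ⟨l, hlk⟩ := hl' k hk
    obtain ⟨ι, Y, d, hd, hY⟩ := hB W
    refine Locally.trans_family (fun V W a k h => by
      simp only [Category.assoc] at h ⊢; exact hP U g _ k h) d hd fun i => ?_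
    refine Locally.of_forall fun W' e => ?_
    let hh' : freeY J (Y i) ⟶ L.cycles m := freeYMap J (d i ≫ k) ≫ h
    obtain ⟨y', hy'⟩ := hinj (Y i) (hY i) (homFreeY _ _ (hh' ≫ L.iCycles m))
      (by rw [← homFreeY_comp, Category.assoc, L.iCycles_d, comp_zero, map_zero])
      (homFreeY _ _ (freeYMap J (d i) ≫ l ≫ y))
      (by
        rw [← homFreeY_comp, ← homFreeY_comp]
        refine congrArg _ ?_
        have := congrArg (fun e => freeYMap J (d i) ≫ l ≫ e ≫ K.iCycles m) hy
        simp only [Category.assoc, toCycles_i] at this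
        rw [Category.assoc, Category.assoc, Category.assoc, ← this, ← Category.assoc l π]
        rw [show l ≫ π = freeYMap J k from hlk.trans (Category.comp_id _)]
        simp only [hh', Category.assoc, cyclesMap_i]
        exact congrArg (fun e : freeY J (Y i) ⟶ freeY J V => e ≫ h ≫ L.iCycles m ≫ φ.f m)
          ((freeYFunctor J).map_comp (d i) k).symm)
    obtain ⟨y'', rfl⟩ := (homFreeY (L.X b) (Y i)).surjective y'
    rw [← homFreeY_comp] at hy'
    have h2 : hh' = y'' ≫ L.toCycles b m := by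
      rw [← cancel_mono (L.iCycles m), Category.assoc y'', toCycles_i]
      exact ((homFreeY (L.X m) (Y i)).injective hy').symm
    have h3 : (freeYFunctor J).map ((d i ≫ k) ≫ f) ≫ g = 0 := by
      rw [Functor.map_comp, Category.assoc, ← hh, ← Category.assoc]
      change hh' ≫ L.homologyπ m = 0
      rw [h2, Category.assoc, toCycles_comp_homologyπ, comp_zero]
    simp only [Category.assoc] at h3 ⊢
    exact hP U g _ e h3
  have : Epi (homologyMap φ m) := by
    refine hG.epi _ fun U g => ?_
    have hP : ∀ ⦃V W : C⦄ (f : V ⟶ U) (k : W ⟶ V),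
        (∃ h, h ≫ homologyMap φ m = (freeYFunctor J).map f ≫ g) →
        ∃ h, h ≫ homologyMap φ m = (freeYFunctor J).map (k ≫ f) ≫ g := fun V W f k ⟨h, e⟩ =>
      ⟨(freeYFunctor J).map k ≫ h, by rw [Category.assoc, e, Functor.map_comp, Category.assoc]⟩
    obtain ⟨S, hS, hl⟩ := hG.lift (K.homologyπ m) g
    refine Locally.trans hP hS fun V f hf => ?_
    obtain ⟨h, hh⟩ := hl f hf
    obtain ⟨ι, Y, d, hd, hY⟩ := hB V
    refine Locally.trans_family (fun V W a k h => by rw [Category.assoc]; exact hP _ k h) d hd fun i => ?_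
    refine Locally.of_forall fun W' e => ?_
    obtain ⟨x, hx, w, hw⟩ := hsurj (Y i) (hY i) (homFreeY _ _ (freeYMap J (d i) ≫ h ≫ K.iCycles m))
      (by rw [← homFreeY_comp, Category.assoc, Category.assoc, K.iCycles_d, comp_zero, comp_zero, map_zero])
    obtain ⟨x', rfl⟩ := (homFreeY (L.X m) (Y i)).surjective x
    obtain ⟨w', rfl⟩ := (homFreeY (K.X b) (Y i)).surjective w
    rw [← homFreeY_comp] at hx
    rw [← homFreeY_comp, ← homFreeY_comp, ← map_add] at hw
    have hx0 : x' ≫ L.d m m' = 0 := (homFreeY _ _).injective (hx.trans (map_zero _).symm)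
    let z := L.liftCycles x' m' hm' hx0
    suffices h3 : ∃ h', h' ≫ homologyMap φ m = (freeYFunctor J).map (d i ≫ f) ≫ g by
      rw [Category.assoc]
      exact hP (d i ≫ f) e h3
    refine ⟨z ≫ L.homologyπ m, ?_⟩
    have h2 : z ≫ cyclesMap φ m = freeYMap J (d i) ≫ h + w' ≫ K.toCycles b m := by
      rw [← cancel_mono (K.iCycles m)]
      simp only [z, Category.assoc, cyclesMap_i, liftCycles_i_assoc, Preadditive.add_comp, toCycles_i]
      exact (homFreeY _ _).injective hw
    rw [Category.assoc, homologyπ_naturality, ← Category.assoc, h2, Preadditive.add_comp,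
      Category.assoc, Category.assoc, toCycles_comp_homologyπ, comp_zero, add_zero, hh,
      Functor.map_comp, Category.assoc]
    rfl
  exact isIso_of_mono_of_epi _

lemma opSequence_map_transition {T : Type*} [Category T] (K : ℕ → T) (t : ∀ n, K (n + 1) ⟶ K n)
    (n : ℕ) : ∀ (k : ℕ),
      (CohCx.opSequence K t).map (homOfLE (n.le_add_right k)).op = CohCx.transition K t n k
  | 0 => (CohCx.opSequence K t).map_id _
  | k + 1 => by
    refine Eq.trans ?_ (congrArg₂ (fun a b => a ≫ b)
      (Functor.ofOpSequence_map_homOfLE_succ (X := K) t (n + k)) (opSequence_map_transition K t n k))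
    exact ((CohCx.opSequence K t).map_comp _ _)

/-- Cohomology sheaves of a termwise limit under Milnor conditions on sections. -/
theorem isIso_homologyMap_limit (F : ℕ → CochainComplex (Sheaf J AddCommGrpCat.{u}) ℤ)
    (t : ∀ n, F (n + 1) ⟶ F n) (m : ℤ) (B : Set C)
    (hB : ∀ U : C, ∃ (ι : Type u) (Y : ι → C) (f : ∀ i, Y i ⟶ U), Sieve.ofArrows Y f ∈ J U ∧ ∀ i, Y i ∈ B)
    (n₀ : ℕ)
    (ha : ∀ U ∈ B, ∀ j : ℤ, (j = m - 2 ∨ j = m - 1) →
      CohCx.LimOneIsZero (fun n => ((F n).X j).obj.obj (op U)) (fun n => (((t n).f j).hom.app (op U)).hom))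
    (hb : ∀ U ∈ B, CohCx.LimOneIsZero
      (fun n => ((CohCx.sectCx J U).obj (F n)).homology (m - 1))
      (fun n => (HomologicalComplex.homologyMap ((CohCx.sectCx J U).map (t n)) (m - 1)).hom))
    (hc : ∀ U ∈ B, ∀ k : ℕ, IsIso (HomologicalComplex.homologyMap
      ((CohCx.sectCx J U).map (CohCx.transition F t n₀ k)) m)) :
    IsIso (homologyMap (limit.π (CohCx.opSequence F t) (op n₀)) m) := by
  have key : ∀ U ∈ B, _ ∧ _ := fun U hU => by
    let G := CohCx.opSequence F t ⋙ CohCx.sectCx J U
    let c : Cone G := (CohCx.sectCx J U).mapCone (limit.cone (CohCx.opSequence F t))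
    let Φ (j : ℤ) := HomologicalComplex.eval (Sheaf J AddCommGrpCat.{u}) (ComplexShape.up ℤ) j ⋙
      sheafToPresheaf J AddCommGrpCat.{u} ⋙ (evaluation Cᵒᵖ AddCommGrpCat.{u}).obj (op U) ⋙
        forget AddCommGrpCat.{u}
    have hl : ∀ j, IsLimit ((Φ j).mapCone (limit.cone (CohCx.opSequence F t))) := fun j =>
      isLimitOfPreserves _ (limit.isLimit _)
    have hstep : ∀ n, step G n = (CohCx.sectCx J U).map (t n) := fun n =>
      congrArg (CohCx.sectCx J U).map (Functor.ofOpSequence_map_homOfLE_succ (X := F) t n)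
    have hext : ∀ (j : ℤ) (x : c.pt.X j), (∀ n, ((proj c n).f j).hom x = 0) → x = 0 :=
      fun j x h => by
        refine (Types.isLimitEquivSections (hl j)).injective (Subtype.ext (funext fun n => ?_))
        exact ((h n.unop).trans (map_zero ((proj c n.unop).f j).hom).symm)
    have hlift : ∀ (j : ℤ) (s : ∀ n, (G.obj (op n)).X j),
        (∀ n, ((step G n).f j).hom (s (n + 1)) = s n) →
          ∃ x, ∀ n, ((proj c n).f j).hom x = s n := fun j s hs => by
      let cn : Cone (CohCx.opSequence F t ⋙ Φ j) :=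
        { pt := PUnit.{u + 1}
          π := NatTrans.ofOpSequence (fun n => TypeCat.ofHom fun _ => s n) (fun n => by
            ext
            exact (hs n).symm) }
      exact ⟨(hl j).lift cn PUnit.unit, fun n =>
        ConcreteCategory.congr_hom ((hl j).fac cn (op n)) PUnit.unit⟩
    have hX : ∀ j : ℤ, (j = m - 2 ∨ j = m - 1) → CohCx.LimOneIsZero (fun n => (G.obj (op n)).X j)
        (fun n => ((step G n).f j).hom) := fun j hj => by
      simp only [hstep]
      exact ha U hU j hj
    have hH : CohCx.LimOneIsZero (fun n => (G.obj (op n)).homology (m - 1))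
        (fun n => (homologyMap (step G n) (m - 1)).hom) := by
      simp only [hstep]
      exact hb U hU
    have hbij : ∀ (n : ℕ) (h : n₀ ≤ n),
        Function.Bijective (homologyMap (G.map (homOfLE h).op) m).hom := fun n h => by
      obtain ⟨k, rfl⟩ := Nat.exists_eq_add_of_le h
      have := hc U hU k
      rw [← opSequence_map_transition] at this
      have : IsIso (homologyMap (G.map (homOfLE h).op) m) := this
      exact ConcreteCategory.bijective_of_isIso (homologyMap (G.map (homOfLE h).op) m)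
    exact And.intro
      (sect_injective c (m - 2) (m - 1) m (m + 1) (by omega) (by omega) rfl n₀ hext hlift
        (hX _ (Or.inl rfl)) hH hbij)
      (sect_surjective c (m - 1) m (m + 1) (by omega) rfl n₀ hext hlift (hX _ (Or.inr rfl)) hbij)
  exact isIso_homologyMap_of_sections _ B hB (m - 1) m (m + 1) (by omega) rfl
    (fun U hU => (key U hU).1) (fun U hU => (key U hU).2)

end Sheaf

end GrothLib.LimCx
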