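import Groth.Agent.Lib.HDU.Values
import Groth.Prelude.Def_DCoh2
import Mathlib.CategoryTheory.Functor.OfSequence

/-!
# Cohomology sheaves of a derived limit
-/

universe u

open CategoryTheory Limits Pretriangulated Opposite DerivedCategory

namespace GrothLib.HDU

open GrothLib.SheafCoh GrothLib.SiteDer

section Tower

variable {T : Type*} [Category T] [Preadditive T] [HasZeroObject T] [HasShift T ℤ]
  [∀ n : ℤ, (shiftFunctor T n).Additive] [Pretriangulated T]
  {K : ℕ → T} {t : ∀ n, K (n + 1) ⟶ K n} [HasProduct K] {L : T} {a : ∀ n, L ⟶ K n}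

theorem eq_zero_of_telescope (hL : CohCx.IsRlimVia K t L a) (X : T)
    (h : ∀ b : ∀ n, X⟦(1 : ℤ)⟧ ⟶ K n, ∃ w : ∀ n, X⟦(1 : ℤ)⟧ ⟶ K n,
      ∀ n, w n - w (n + 1) ≫ t n = b n)
    (φ : X ⟶ L) (hφ : ∀ n, φ ≫ a n = 0) : φ = 0 := by
  obtain ⟨c, hc⟩ := hL
  have h0 : φ ≫ Pi.lift a = 0 := Pi.hom_ext _ _ fun n => by simp [hφ n]
  obtain ⟨z, hz⟩ := Triangle.coyoneda_exact₁ _ hc (φ⟦(1 : ℤ)⟧') (by
    change φ⟦(1 : ℤ)⟧' ≫ (Pi.lift a)⟦(1 : ℤ)⟧' = 0
    rw [← Functor.map_comp, h0, Functor.map_zero])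
  let z' : X⟦(1 : ℤ)⟧ ⟶ ∏ᶜ K := z
  replace hz : φ⟦(1 : ℤ)⟧' = z' ≫ c := hz
  obtain ⟨w, hw⟩ := h fun n => z' ≫ Pi.π K n
  have hzw : z' = Pi.lift w ≫ Pi.lift fun n => Pi.π K n - Pi.π K (n + 1) ≫ t n :=
    Pi.hom_ext _ _ fun n => by simp [Preadditive.comp_sub, hw n]
  have h23 : (Pi.lift fun n => Pi.π K n - Pi.π K (n + 1) ≫ t n) ≫ c = 0 :=
    comp_distTriang_mor_zero₂₃ _ hc
  rw [hzw, Category.assoc, h23, comp_zero] at hz
  exact (shiftFunctor T (1 : ℤ)).map_injective (hz.trans (Functor.map_zero _ _ _).symm)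

theorem exists_lift (hL : CohCx.IsRlimVia K t L a) {X : T} (ψ : ∀ n, X ⟶ K n)
    (hψ : ∀ n, ψ (n + 1) ≫ t n = ψ n) : ∃ φ : X ⟶ L, ∀ n, φ ≫ a n = ψ n := by
  obtain ⟨c, hc⟩ := hL
  have h0 : Pi.lift ψ ≫ (Pi.lift fun n => Pi.π K n - Pi.π K (n + 1) ≫ t n) = 0 :=
    Pi.hom_ext _ _ fun n => by simp [Preadditive.comp_sub, hψ n]
  obtain ⟨φ, hφ⟩ := Triangle.coyoneda_exact₂ _ hc (Pi.lift ψ) h0
  let φ' : X ⟶ L := φ
  replace hφ : Pi.lift ψ = φ' ≫ Pi.lift a := hφ
  exact ⟨φ', fun n => by simpa using (congrArg (fun f => f ≫ Pi.π K n) hφ).symm⟩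

end Tower

variable {C : Type u} [SmallCategory C] {J : GrothendieckTopology C}
  [HasDerivedCategory.{u} (Sheaf J AddCommGrpCat.{u})]

/-- The comparison map to the limit of cohomology sheaves is an isomorphism. -/
theorem nonempty_iso_limit (K : ℕ → DerivedCategory (Sheaf J AddCommGrpCat.{u})) (t : ∀ n, K (n + 1) ⟶ K n) [HasProduct K]
    {L : DerivedCategory (Sheaf J AddCommGrpCat.{u})} (hL' : DCoh.IsRlim K t L) (B : Set C)
    (hB : ∀ U : C, ∃ (ι : Type u) (Y : ι → C) (f : ∀ i, Y i ⟶ U), Sieve.ofArrows Y f ∈ J U ∧ ∀ i, Y i ∈ B)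
    (h1 : ∀ U ∈ B, ∀ (p : ℕ) (q : ℤ) (n : ℕ), Subsingleton (CohSite.HU (CohCx.HD (K n) q) (p + 1) U))
    (h2 : ∀ U ∈ B, ∀ (q : ℤ), CohCx.LimOneIsZero (fun n => (CohCx.HD (K n) q).obj.obj (op U))
      (fun n => (((homologyFunctor (Sheaf J AddCommGrpCat.{u}) q).map (t n)).hom.app (op U)).hom))
    (q : ℤ) :
    Nonempty (CohCx.HD L q ≅ limit (CohCx.opSequence (fun n => CohCx.HD (K n) q)
      (fun n => (homologyFunctor (Sheaf J AddCommGrpCat.{u}) q).map (t n)))) := by
  obtain ⟨a', c', hc'⟩ := hL'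
  let a : ∀ n, L ⟶ K n := fun n => a' ≫ Pi.π K n
  have hL : CohCx.IsRlimVia K t L a := ⟨c', by
    have ha : Pi.lift a = a' := Pi.hom_ext _ _ fun n => by simp [a]
    rw [ha]; exact hc'⟩
  have hθ : ∀ (U : C), U ∈ B → ∀ (j : ℤ) (n : ℕ), Function.Bijective
      (fun φ : (singleFunctor (Sheaf J AddCommGrpCat.{u}) j).obj (freeY J U) ⟶ K n => theta φ) := fun U hU j n =>
    theta_bijective_of_acyclic (K n) B hB (fun V hV p r => h1 V hV p r n) U hU j
  have theta_add : ∀ {X : (Sheaf J AddCommGrpCat.{u})} {E : DerivedCategory (Sheaf J AddCommGrpCat.{u})} {j : ℤ}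
      (x y : (singleFunctor (Sheaf J AddCommGrpCat.{u}) j).obj X ⟶ E), theta (x + y) = theta x + theta y := by
    intros; simp [theta]
  have theta_sub : ∀ {X : (Sheaf J AddCommGrpCat.{u})} {E : DerivedCategory (Sheaf J AddCommGrpCat.{u})} {j : ℤ}
      (x y : (singleFunctor (Sheaf J AddCommGrpCat.{u}) j).obj X ⟶ E), theta (x - y) = theta x - theta y := by
    intros; simp [theta]
  let F : ℕᵒᵖ ⥤ (Sheaf J AddCommGrpCat.{u}) := CohCx.opSequence (fun n => CohCx.HD (K n) q)
    (fun n => (homologyFunctor (Sheaf J AddCommGrpCat.{u}) q).map (t n))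
  let cn : Cone F :=
    { pt := CohCx.HD L q
      π := NatTrans.ofOpSequence (fun n => (homologyFunctor (Sheaf J AddCommGrpCat.{u}) q).map (a n)) (fun n => by
        change 𝟙 _ ≫ (homologyFunctor (Sheaf J AddCommGrpCat.{u}) q).map (a n) = (homologyFunctor (Sheaf J AddCommGrpCat.{u}) q).map (a (n + 1)) ≫
          F.map (homOfLE (n.le_add_right 1)).op
        rw [Category.id_comp]
        refine Eq.trans ?_ (congrArg (fun x => (homologyFunctor (Sheaf J AddCommGrpCat.{u}) q).map (a (n + 1)) ≫ x)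
          (Functor.ofOpSequence_map_homOfLE_succ (X := fun n => CohCx.HD (K n) q) _ n).symm)
        exact ((congrArg _ (rlim_compatible hL n)).symm.trans (Functor.map_comp _ _ _))) }
  let c := limit.lift F cn
  have hc : ∀ n, c ≫ limit.π F (op n) = (homologyFunctor (Sheaf J AddCommGrpCat.{u}) q).map (a n) := fun n =>
    (limit.lift_π cn (op n)).trans (by simp [cn])
  have hF : ∀ n, limit.π F (op (n + 1)) ≫ (homologyFunctor (Sheaf J AddCommGrpCat.{u}) q).map (t n) = limit.π F (op n) := by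
    intro n
    have := limit.w F (homOfLE (n.le_add_right 1)).op
    simp only [F, CohCx.opSequence, Functor.ofOpSequence_map_homOfLE_succ] at this
    exact this
  have hG := isLocGen_free J
  have : Mono c := by
    refine hG.mono c fun U g hg => Locally.of_theta hG g fun V f φ hφ => ?_
    obtain ⟨ι, Y, b, hb, hY⟩ := hB V
    refine Locally.trans_family (fun W W' k l h => by
      rw [Functor.map_comp, Functor.map_comp, Category.assoc, h, comp_zero]) b hb fun i => ?_
    refine Locally.of_forall fun W k => ?_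
    have h0 : (singleFunctor (Sheaf J AddCommGrpCat.{u}) q).map (freeYMap J (b i)) ≫ φ = 0 := by
      refine eq_zero_of_telescope hL _ (fun β => ?_) _ fun n => ?_
      · let e := singleShiftOne (freeY J (Y i)) q
        obtain ⟨σ, hσ⟩ := h2 (Y i) (hY i) (q - 1) fun n =>
          homFreeY _ (Y i) (theta (e.inv ≫ β n))
        choose w hw using fun n => (hθ (Y i) (hY i) (q - 1) n).2 ((homFreeY _ (Y i)).symm (σ n))
        refine ⟨fun n => e.hom ≫ w n, fun n => ?_⟩
        rw [← cancel_epi e.inv, Preadditive.comp_sub, Iso.inv_hom_id_assoc, Category.assoc,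
          Iso.inv_hom_id_assoc]
        apply (hθ (Y i) (hY i) (q - 1) n).1
        refine (theta_sub _ _).trans ?_
        rw [theta_comp, show theta (w n) = _ from hw n, show theta (w (n + 1)) = _ from hw (n + 1)]
        apply (homFreeY (CohCx.HD (K n) (q - 1)) (Y i)).injective
        rw [map_sub, homFreeY_comp, AddEquiv.apply_symm_apply, AddEquiv.apply_symm_apply]
        exact congrFun hσ n
      · apply (hθ (Y i) (hY i) q n).1
        change theta _ = theta _
        rw [theta_zero, theta_comp, theta_map_comp, hφ, Category.assoc, Category.assoc]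
        have hg' : g ≫ (homologyFunctor (Sheaf J AddCommGrpCat.{u}) q).map (a n) = 0 :=
          (congrArg (fun x => g ≫ x) (hc n).symm).trans ((Category.assoc _ _ _).symm.trans
            ((congrArg (fun x => x ≫ limit.π F (op n)) hg).trans zero_comp))
        rw [hg', comp_zero, comp_zero]
    rw [Functor.map_comp, Functor.map_comp, Category.assoc]
    exact (congrArg (fun x => _ ≫ x) h0).trans comp_zero
  have : Epi c := by
    refine hG.epi c fun U g => ?_
    obtain ⟨ι, Y, b, hb, hY⟩ := hB U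
    refine Locally.trans_family (fun V V' k l ⟨h, hh⟩ =>
      ⟨(freeYFunctor J).map l ≫ h, by rw [Category.assoc, hh, Functor.map_comp, Category.assoc]⟩)
      b hb fun i => ?_
    let g' : freeY J (Y i) ⟶ limit F := freeYMap J (b i) ≫ g
    choose ψ hψ using fun n => (hθ (Y i) (hY i) q n).2 (g' ≫ limit.π F (op n))
    obtain ⟨φ, hφ⟩ := exists_lift hL ψ fun n => by
      apply (hθ (Y i) (hY i) q n).1
      change theta _ = theta _
      rw [theta_comp, show theta (ψ (n + 1)) = _ from hψ (n + 1), show theta (ψ n) = _ from hψ n,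
        Category.assoc]
      exact congrArg (fun x => g' ≫ x) (hF n)
    have hc2 : theta φ ≫ c = g' := by
      refine limit.hom_ext fun ⟨n⟩ => ?_
      exact (Category.assoc _ _ _).trans ((congrArg (fun x => theta φ ≫ x) (hc n)).trans
        ((theta_comp φ (a n)).symm.trans ((congrArg theta (hφ n)).trans (hψ n))))
    refine Locally.of_forall fun W k => ⟨(freeYFunctor J).map k ≫ theta φ, ?_⟩
    rw [Category.assoc, hc2, Functor.map_comp, Category.assoc]
    rfl
  exact ⟨@asIso _ _ _ _ c (isIso_of_mono_of_epi c)⟩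

end GrothLib.HDU
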