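import Groth.Agent.Lib.HDU.LocGen
import Groth.Agent.S0943

/-!
# Detecting classes of a derived limit at one stage
-/

universe u

open CategoryTheory Limits Opposite DerivedCategory

namespace GrothLib.HDU

open GrothLib.SheafCoh GrothLib.SiteDer

variable {C : Type u} [SmallCategory C] {J : GrothendieckTopology C}
  [HasDerivedCategory.{u} (Sheaf J AddCommGrpCat.{u})]

/-- Maps out of a single object in degree `m` as maps into a shift. -/
noncomputable def toShift (X : Sheaf J AddCommGrpCat.{u}) (m : ℤ)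
    {L : DerivedCategory (Sheaf J AddCommGrpCat.{u})}
    (φ : (singleFunctor (Sheaf J AddCommGrpCat.{u}) m).obj X ⟶ L) :
    (singleFunctor (Sheaf J AddCommGrpCat.{u}) 0).obj X ⟶ L⟦m⟧ :=
  (((singleFunctors (Sheaf J AddCommGrpCat.{u})).shiftIso m 0 m (add_zero m)).app X).inv ≫ φ⟦m⟧'

lemma toShift_comp (X : Sheaf J AddCommGrpCat.{u}) (m : ℤ)
    {L L' : DerivedCategory (Sheaf J AddCommGrpCat.{u})}
    (φ : (singleFunctor (Sheaf J AddCommGrpCat.{u}) m).obj X ⟶ L) (a : L ⟶ L') :
    toShift X m (φ ≫ a) = toShift X m φ ≫ a⟦m⟧' := by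
  simp [toShift]

lemma eq_zero_of_toShift (X : Sheaf J AddCommGrpCat.{u}) (m : ℤ)
    {L : DerivedCategory (Sheaf J AddCommGrpCat.{u})}
    (φ : (singleFunctor (Sheaf J AddCommGrpCat.{u}) m).obj X ⟶ L) (h : toShift X m φ = 0) :
    φ = 0 := by
  apply (shiftFunctor (DerivedCategory (Sheaf J AddCommGrpCat.{u})) m).map_injective
  rw [Functor.map_zero, ← cancel_epi (((singleFunctors (Sheaf J AddCommGrpCat.{u})).shiftIso m 0 m
    (add_zero m)).app X).inv, comp_zero]
  exact h

variable {K : ℕ → DerivedCategory (Sheaf J AddCommGrpCat.{u})} {t : ∀ n, K (n + 1) ⟶ K n}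
  [HasProduct K] {L : DerivedCategory (Sheaf J AddCommGrpCat.{u})} {a : ∀ n, L ⟶ K n}
  (hL : CohCx.IsRlimVia K t L a)

include hL in
lemma transition_comp (n : ℕ) : ∀ k, a (n + k) ≫ CohCx.transition K t n k = a n
  | 0 => Category.comp_id _
  | k + 1 => by
    change a (n + k + 1) ≫ t (n + k) ≫ CohCx.transition K t n k = a n
    rw [← Category.assoc, rlim_compatible hL (n + k), transition_comp n k]

include hL in
/-- A map killed at one stage vanishes. -/
theorem eq_zero_of_stage (U : C) (m : ℤ) (nV : ℕ)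
    (h1 : CohCx.LimOneIsZero (fun n => CohCx.HDU (K n) (m - 1) U)
      (fun n => Preadditive.rightComp _ ((shiftFunctor _ (m - 1)).map (t n))))
    (h2 : ∀ k : ℕ, Function.Injective
      (Preadditive.rightComp _ ((shiftFunctor _ m).map (CohCx.transition K t nV k)) :
        CohCx.HDU (K (nV + k)) m U → CohCx.HDU (K nV) m U))
    (φ : (singleFunctor (Sheaf J AddCommGrpCat.{u}) m).obj (freeY J U) ⟶ L)
    (hφ : φ ≫ a nV = 0) : φ = 0 := by
  have hz : ∀ k, φ ≫ a (nV + k) = 0 := fun k => by
    apply eq_zero_of_toShift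
    refine h2 k ?_
    change toShift (freeY J U) m (φ ≫ a (nV + k)) ≫ (shiftFunctor _ m).map (CohCx.transition K t nV k) =
      0 ≫ (shiftFunctor _ m).map (CohCx.transition K t nV k)
    rw [zero_comp, ← toShift_comp, Category.assoc, transition_comp hL nV k, hφ]
    simp [toShift]
  have hall : ∀ (d n : ℕ), n + d = nV → φ ≫ a n = 0 := by
    intro d
    induction d with
    | zero => rintro n rfl; exact hφ
    | succ d ih =>
      intro n hn
      rw [← rlim_compatible hL n, ← Category.assoc, ih (n + 1) (by omega), zero_comp]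
  apply eq_zero_of_toShift
  refine Groth.Agent.S0943.eq_zero_of_limOne K t a hL _ m h1 _ fun n => ?_
  rw [← toShift_comp]
  have : φ ≫ a n = 0 := by
    by_cases h : nV ≤ n
    · obtain ⟨k, rfl⟩ := Nat.exists_eq_add_of_le h
      exact hz k
    · exact hall (nV - n) n (by omega)
  rw [this]
  simp [toShift]

include hL in
/-- A class vanishing at one stage vanishes as soon as it does so on a cover. -/
theorem exists_sieve_stage (m : ℤ) (nV : ℕ) (V : C) (g : freeY J V ⟶ (homologyFunctor _ m).obj L)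
    (hg : g ≫ (homologyFunctor _ m).map (a nV) = 0) :
    Locally J V (fun W f =>
      ∃ φ : (singleFunctor (Sheaf J AddCommGrpCat.{u}) m).obj (freeY J W) ⟶ L,
        theta φ = freeYMap J f ≫ g ∧ φ ≫ a nV = 0) := by
  obtain ⟨S, hS, hSφ⟩ := (isLocGen_free J).exists_theta g
  refine Locally.trans ?_ hS fun W f hf => ?_
  · rintro W W' f k ⟨φ, h1, h2⟩
    refine ⟨(singleFunctor _ m).map (freeYMap J k) ≫ φ, ?_, ?_⟩
    · rw [theta_map_comp, h1, ← Category.assoc]
      congr 1
      exact ((freeYFunctor J).map_comp k f).symm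
    · rw [Category.assoc, h2, comp_zero]
  obtain ⟨φ, hφ⟩ := hSφ f hf
  have h0 : theta (φ ≫ a nV) = 0 := by
    rw [theta_comp, hφ, Category.assoc, hg, comp_zero]
  refine ((isLocGen_free J).eq_zero_of_theta _ h0).mono fun W' k hk => ?_
  refine ⟨(singleFunctor _ m).map (freeYMap J k) ≫ φ, ?_, (Category.assoc _ _ _).trans hk⟩
  rw [theta_map_comp, hφ, ← Category.assoc]
  congr 1
  exact ((freeYFunctor J).map_comp k f).symm

end GrothLib.HDU
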