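import Groth.Agent.Lib.HDU.Sheaf
import Groth.Agent.Lib.SiteDer.RlimTower
import Groth.Agent.Lib.SiteDer.Transfer

/-!
# Free abelian sheaves as local generators; vanishing of maps from sheaf cohomology
-/

universe u

open CategoryTheory Limits Opposite DerivedCategory

namespace GrothLib.HDU

open GrothLib.SheafCoh

variable {C : Type u} [SmallCategory C] (J : GrothendieckTopology C)

/-- The free abelian sheaves on representables are local generators. -/
theorem isLocGen_free : SiteDer.IsLocGen J (freeYFunctor J) where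
  lift {M N} p _ {U} g := by
    have : Sheaf.IsLocallySurjective p :=
      (Sheaf.isLocallySurjective_iff_epi' (A := AddCommGrpCat.{u}) p).2 inferInstance
    refine ⟨_, Presheaf.imageSieve_mem J p.hom (homFreeY N U g), fun V f hf => ?_⟩
    obtain ⟨t, ht⟩ := hf
    obtain ⟨h, rfl⟩ := (homFreeY M V).surjective t
    refine ⟨h, (homFreeY N V).injective ?_⟩
    rw [homFreeY_comp]
    exact ht.trans (homFreeY_map N f g).symm
  sep {M U} g hg := by
    obtain ⟨S, hS, h⟩ := hg
    refine (homFreeY M U).injective (((((isSheaf_iff_isSheaf_of_type J _).1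
      ((Presheaf.isSheaf_iff_isSheaf_comp J M.obj (forget AddCommGrpCat.{u})).1 M.property)) S hS)
      ).isSeparatedFor.ext fun V f hf => ?_)
    change (M.obj.map f.op).hom (homFreeY M U g) = (M.obj.map f.op).hom (homFreeY M U 0)
    rw [← homFreeY_map, show freeYMap J f ≫ g = 0 from h f hf, ← homFreeY_map, comp_zero]
  mono {M N} p h := by
    refine Preadditive.mono_of_cancel_zero p fun {P} a ha => ?_
    ext U x
    obtain ⟨b, rfl⟩ := (homFreeY P U.unop).surjective x
    have : b ≫ a = 0 := h U.unop (b ≫ a) (by rw [Category.assoc, ha, comp_zero])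
    refine (homFreeY_comp U.unop b a).symm.trans ?_
    rw [this, map_zero]
    rfl
  epi {M N} p h := by
    have : Sheaf.IsLocallySurjective p := ⟨fun {U} s => by
      obtain ⟨g, rfl⟩ := (homFreeY N U).surjective s
      obtain ⟨S, hS, hS'⟩ := h U g
      refine J.superset_covering (fun V f hf => ?_) hS
      obtain ⟨a, ha⟩ := hS' f hf
      refine ⟨homFreeY M V a, ?_⟩
      refine (homFreeY_comp V a p).symm.trans ?_
      rw [ha]
      exact homFreeY_map N f g⟩
    infer_instance

variable {J} [HasDerivedCategory.{u} (Sheaf J AddCommGrpCat.{u})]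

/-- No maps between single objects when the cohomology group vanishes. -/
theorem eq_zero_of_HU (M : Sheaf J AddCommGrpCat.{u}) (U : C) (k q : ℤ) (n : ℕ) (h : k - q = n)
    (hs : Subsingleton (CohSite.HU M n U))
    (ψ : (singleFunctor (Sheaf J AddCommGrpCat.{u}) k).obj (freeY J U) ⟶
      (singleFunctor (Sheaf J AddCommGrpCat.{u}) q).obj M) : ψ = 0 :=
  SiteDer.eq_zero_of_subsingleton_ext (freeY J U) M k q n h
    ((HUext M n U).symm.toEquiv.subsingleton) ψ

/-- Local values of the truncation tower are constant where the cohomology of the cohomology sheaves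
vanishes. -/
theorem goodAt_trunc (E : DerivedCategory (Sheaf J AddCommGrpCat.{u})) (j p : ℤ) (n₁ : ℕ)
    (hn₁ : max 0 p + max 0 (-j) + 1 ≤ (n₁ : ℤ)) (U : C)
    (h : ∀ (m : ℤ), (m = j + 1 ∨ m = j) → ∀ q : ℤ, ∀ k : ℕ, m - q = k → p < k →
      Subsingleton (CohSite.HU (CohCx.HD E q) k U)) :
    SiteDer.GoodAt (K := fun n : ℕ => (TStructure.t.truncGE (-(n : ℤ))).obj E)
      (fun n => (TStructure.t.natTransTruncGEOfLE (-((n + 1 : ℕ) : ℤ)) (-(n : ℤ))
        (by omega)).app E) (freeYFunctor J) j n₁ U := by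
  refine SiteDer.goodAt_of_homology j n₁ U fun n hn => ?_
  obtain ⟨Z, g, c, hT, hZ, hz, ⟨e⟩⟩ := SiteDer.exists_cone_truncMap E n
  refine ⟨Z, g, c, _, hT, hZ, fun k q hk hq ψ => ?_⟩
  by_cases hq' : q = -(n : ℤ) - 2
  · subst hq'
    obtain ⟨r, hr⟩ : ∃ r : ℕ, k - (-(n : ℤ) - 2) = r := ⟨(k - (-(n : ℤ) - 2)).toNat, by omega⟩
    rw [← cancel_mono ((singleFunctor (Sheaf J AddCommGrpCat.{u}) (-(n : ℤ) - 2)).map e.hom),
      zero_comp]
    exact eq_zero_of_HU _ U k _ r hr
      (h (k + 1) (by omega) (-(n : ℤ) - 1) r (by omega) (by omega)) _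
  · exact ((singleFunctor (Sheaf J AddCommGrpCat.{u}) q).map_isZero (hz q hq')).eq_of_tgt _ _

end GrothLib.HDU
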