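import Groth.Agent.Lib.HDU.Sheaf
import Groth.Agent.Lib.SheafCoh.PushInj
import Groth.Agent.Lib.KInj.Adjoint
import Mathlib.CategoryTheory.Adjunction.Additive
import Mathlib.CategoryTheory.Shift.Adjunction
import Mathlib.CategoryTheory.Adjunction.Unique

/-!
# Cohomology over inverse images of opens as maps into the derived direct image
-/

set_option maxHeartbeats 400000

universe u

open CategoryTheory Limits Opposite TopologicalSpace

namespace GrothLib.HDU

open GrothLib.SheafCoh

variable {X Y : TopCat.{u}} (f : X ⟶ Y)

/-- The inverse image adjunction. -/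
noncomputable abbrev pullAdj : CohTop.pull f ⊣ CohTop.push f :=
  TopCat.Sheaf.pullbackPushforwardAdjunction AddCommGrpCat.{u} f

instance additive_pull : (CohTop.pull f).Additive := (pullAdj f).left_adjoint_additive

instance finiteLimits_pull : PreservesFiniteLimits (CohTop.pull f) := preservesFiniteLimits_pull f

instance finiteColimits_pull : PreservesFiniteColimits (CohTop.pull f) :=
  have : PreservesColimitsOfSize.{0, 0} (CohTop.pull f) :=
    (pullAdj f).leftAdjoint_preservesColimits (F := CohTop.pull f) (G := CohTop.push f)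
  PreservesColimitsOfSize.preservesFiniteColimits _

/-- Maps out of the inverse image of the free sheaf on `V`. -/
noncomputable def pullFreeHom (V : Opens Y) (F : CohTop.Ab X) :
    ((CohTop.pull f).obj (freeY (Opens.grothendieckTopology Y) V) ⟶ F) ≃
      (freeY (Opens.grothendieckTopology X) ((Opens.map f).obj V) ⟶ F) :=
  ((pullAdj f).homEquiv _ F).trans
    ((homFreeY ((CohTop.push f).obj F) V).toEquiv.trans
      (homFreeY F ((Opens.map f).obj V)).toEquiv.symm)

lemma pullFreeHom_spec (V : Opens Y) (F : CohTop.Ab X)
    (a : (CohTop.pull f).obj (freeY (Opens.grothendieckTopology Y) V) ⟶ F) :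
    (homFreeY F ((Opens.map f).obj V) (pullFreeHom f V F a) : F.obj.obj (op ((Opens.map f).obj V))) =
      homFreeY ((CohTop.push f).obj F) V ((pullAdj f).homEquiv _ F a) :=
  AddEquiv.apply_symm_apply _ _

lemma pullFreeHom_comp (V : Opens Y) {F F' : CohTop.Ab X}
    (a : (CohTop.pull f).obj (freeY (Opens.grothendieckTopology Y) V) ⟶ F) (g : F ⟶ F') :
    pullFreeHom f V F' (a ≫ g) = pullFreeHom f V F a ≫ g := by
  apply (homFreeY F' ((Opens.map f).obj V)).injective
  refine (pullFreeHom_spec f V F' (a ≫ g)).trans ?_
  refine ((congrArg (homFreeY ((CohTop.push f).obj F') V)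
    ((pullAdj f).homEquiv_naturality_right a g)).trans (homFreeY_comp V _ _)).trans ?_
  refine Eq.trans ?_ (homFreeY_comp _ _ g).symm
  exact congrArg (g.hom.app (op ((Opens.map f).obj V))).hom (pullFreeHom_spec f V F a).symm

lemma pullFreeHom_natural {V W : Opens Y} (i : V ⟶ W) (F : CohTop.Ab X)
    (a : (CohTop.pull f).obj (freeY (Opens.grothendieckTopology Y) W) ⟶ F) :
    pullFreeHom f V F ((CohTop.pull f).map (freeYMap (Opens.grothendieckTopology Y) i) ≫ a) =
      freeYMap (Opens.grothendieckTopology X) ((Opens.map f).map i) ≫ pullFreeHom f W F a := by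
  apply (homFreeY F ((Opens.map f).obj V)).injective
  refine (pullFreeHom_spec f V F _).trans ?_
  refine ((congrArg (homFreeY ((CohTop.push f).obj F) V)
    ((pullAdj f).homEquiv_naturality_left _ a)).trans (homFreeY_map _ i _)).trans ?_
  refine Eq.trans ?_ (homFreeY_map F ((Opens.map f).map i) _).symm
  exact congrArg (F.obj.map ((Opens.map f).map i).op).hom (pullFreeHom_spec f W F a).symm

section Generic

variable {D A : Type*} [Category D] [Category A]

/-- Functors are isomorphic when their objects corepresent naturally isomorphic functors. -/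
def isoOfHomEquiv (P P' : D ⥤ A) (e : ∀ V F, (P.obj V ⟶ F) ≃ (P'.obj V ⟶ F))
    (hr : ∀ V {F F'} (a : P.obj V ⟶ F) (g : F ⟶ F'), e V F' (a ≫ g) = e V F a ≫ g)
    (hl : ∀ {V W} (i : V ⟶ W) F (a : P.obj W ⟶ F), e V F (P.map i ≫ a) = P'.map i ≫ e W F a) :
    P ≅ P' :=
  NatIso.ofComponents (fun V =>
      { hom := (e V _).symm (𝟙 _)
        inv := e V _ (𝟙 _)
        hom_inv_id := (e V _).injective (by rw [hr, Equiv.apply_symm_apply, Category.id_comp])
        inv_hom_id := by rw [← hr, Category.id_comp, Equiv.apply_symm_apply] })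
    (fun {V W} i => (e V _).injective ((hl i _ _).trans (Eq.trans (by
      rw [Equiv.apply_symm_apply, Category.comp_id]) (Eq.trans (by
      rw [Equiv.apply_symm_apply, Category.id_comp]) (hr V _ _).symm))))

end Generic

/-- The inverse image of a free sheaf is the free sheaf on the inverse image. -/
noncomputable def pullFreeIso :
    freeYFunctor (Opens.grothendieckTopology Y) ⋙ CohTop.pull f ≅
      Opens.map f ⋙ freeYFunctor (Opens.grothendieckTopology X) :=
  isoOfHomEquiv _ _ (fun V F => pullFreeHom f V F) (fun V _ _ a g => pullFreeHom_comp f V a g)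
    (fun i F a => pullFreeHom_natural f i F a)

variable [HasDerivedCategory.{u} (CohTop.Ab X)] [HasDerivedCategory.{u} (CohTop.Ab Y)]

/-- The derived direct image, computed by K-injective resolutions. -/
noncomputable def Rpf : DerivedCategory (CohTop.Ab X) ⥤ DerivedCategory (CohTop.Ab Y) :=
  KInj.res (CohTop.Ab X) ⋙ (CohTop.push f).mapHomotopyCategory (ComplexShape.up ℤ) ⋙
    DerivedCategory.Qh

/-- The derived inverse image adjunction. -/
noncomputable def Rpfadj : (CohTop.pull f).mapDerivedCategory ⊣ Rpf f :=
  KInj.derivedAdj (pullAdj f)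

/-- The derived direct image commutes with shifts. -/
noncomputable def RpfShift (i : ℤ) :
    Rpf f ⋙ shiftFunctor (DerivedCategory (CohTop.Ab Y)) i ≅
      shiftFunctor (DerivedCategory (CohTop.Ab X)) i ⋙ Rpf f :=
  Adjunction.rightAdjointUniq
    ((shiftEquiv' (DerivedCategory (CohTop.Ab Y)) (-i) i (neg_add_cancel i)).toAdjunction.comp
      (Rpfadj f))
    (((Rpfadj f).comp
      (shiftEquiv' (DerivedCategory (CohTop.Ab X)) (-i) i (neg_add_cancel i)).toAdjunction).ofNatIsoLeft
        (((CohTop.pull f).mapDerivedCategory).commShiftIso (-i)).symm)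

/-- The derived inverse image of a free sheaf in degree zero. -/
noncomputable def pullSingleFreeIso :
    freeYFunctor (Opens.grothendieckTopology Y) ⋙
        DerivedCategory.singleFunctor (CohTop.Ab Y) 0 ⋙ (CohTop.pull f).mapDerivedCategory ≅
      Opens.map f ⋙ freeYFunctor (Opens.grothendieckTopology X) ⋙
        DerivedCategory.singleFunctor (CohTop.Ab X) 0 :=
  Functor.isoWhiskerLeft _ ((CohTop.pull f).mapDerivedCategorySingleFunctor 0) ≪≫
    (Functor.associator _ _ _).symm ≪≫
    Functor.isoWhiskerRight (pullFreeIso f) _ ≪≫ Functor.associator _ _ _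

/-- Maps into the derived direct image. -/
noncomputable def homPshRpf (Z : DerivedCategory (CohTop.Ab X)) :
    homPsh ((Rpf f).obj Z) ≅ (Opens.map f).op ⋙ homPsh Z :=
  NatIso.ofComponents (fun V => AddEquiv.toAddCommGrpIso
      (((Rpfadj f).homAddEquiv
          ((DerivedCategory.singleFunctor (CohTop.Ab Y) 0).obj
            (freeY (Opens.grothendieckTopology Y) V.unop)) Z).symm.trans
        (AddMonoidHom.toAddEquiv
          (Preadditive.leftComp Z ((pullSingleFreeIso f).inv.app V.unop))
          (Preadditive.leftComp Z ((pullSingleFreeIso f).hom.app V.unop))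
          (by
            ext a
            exact (Category.assoc _ _ _).symm.trans
              ((congrArg (fun b => b ≫ a) ((pullSingleFreeIso f).hom_inv_id_app _)).trans
                (Category.id_comp _)))
          (by
            ext a
            exact (Category.assoc _ _ _).symm.trans
              ((congrArg (fun b => b ≫ a) ((pullSingleFreeIso f).inv_hom_id_app _)).trans
                (Category.id_comp _))))))
    (fun {V W} i => by
      ext x
      let φ := (DerivedCategory.singleFunctor (CohTop.Ab Y) 0).map
        (freeYMap (Opens.grothendieckTopology Y) i.unop)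
      change (pullSingleFreeIso f).inv.app W.unop ≫
          ((Rpfadj f).homEquiv _ Z).symm (φ ≫ x) =
        (DerivedCategory.singleFunctor (CohTop.Ab X) 0).map
            (freeYMap (Opens.grothendieckTopology X) ((Opens.map f).map i.unop)) ≫
          (pullSingleFreeIso f).inv.app V.unop ≫ ((Rpfadj f).homEquiv _ Z).symm x
      rw [Adjunction.homEquiv_naturality_left_symm, ← Category.assoc, ← Category.assoc]
      congr 1
      exact ((pullSingleFreeIso f).inv.naturality i.unop).symm)

/-- The presheaf `V ↦ H^i(f⁻¹V, K)` as maps into the derived direct image. -/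
noncomputable def homPshShiftIso (K : DerivedCategory (CohTop.Ab X)) (i : ℤ) :
    homPsh ((shiftFunctor (DerivedCategory (CohTop.Ab Y)) i).obj ((Rpf f).obj K)) ≅
      (Opens.map f).op ⋙ CohCx.HDUPresheaf K i :=
  Functor.isoWhiskerLeft _ (preadditiveYoneda.mapIso ((RpfShift f i).app K)) ≪≫
    homPshRpf f ((shiftFunctor (DerivedCategory (CohTop.Ab X)) i).obj K)

end GrothLib.HDU
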