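import Groth.Agent.Lib.HDU.Push
import Groth.Agent.Lib.LocZ.Excision
import Mathlib.CategoryTheory.Adjunction.FullyFaithful

/-!
# Cohomology over an open subset of objects of the derived category
-/

universe w w' u

open CategoryTheory Limits Opposite TopologicalSpace

namespace GrothLib.HDU

open GrothLib.SheafCoh

section General

variable {A : Type*} [Category A] [Abelian A] {B : Type*} [Category B] [Abelian B]

/-- A left adjoint of a functor preserving injectives preserves monomorphisms. -/
theorem preservesMonomorphisms_of_adj [EnoughInjectives A] {L : B ⥤ A} {G : A ⥤ B} (adj : L ⊣ G)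
    (h : ∀ I : A, Injective I → Injective (G.obj I)) : L.PreservesMonomorphisms where
  preserves {X Y} f _ := by
    have := h (Injective.under (L.obj X)) inferInstance
    let a := adj.homEquiv X _ (Injective.ι (L.obj X))
    have e : L.map f ≫ (adj.homEquiv Y _).symm (Injective.factorThru a f) = Injective.ι (L.obj X) := by
      rw [← adj.homEquiv_naturality_left_symm, Injective.comp_factorThru, Equiv.symm_apply_apply]
    exact mono_of_mono_fac e

/-- A right exact functor preserving monomorphisms is exact. -/
theorem preservesFiniteLimits_of_mono (L : B ⥤ A) [L.Additive] [PreservesFiniteColimits L]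
    [L.PreservesMonomorphisms] : PreservesFiniteLimits L := by
  have h : ∀ S : ShortComplex B, S.ShortExact → (S.map L).ShortExact := fun S hS => by
    have h2 := ((L.preservesFiniteColimits_tfae.out 3 0 (a := PreservesFiniteColimits L)
      (b := ∀ S : ShortComplex B, S.ShortExact → (S.map L).Exact ∧ Epi (L.map S.g))).1 inferInstance) S hS
    have := hS.mono_f
    exact { exact := h2.1, mono_f := inferInstanceAs (Mono (L.map S.f)), epi_g := h2.2 }
  exact ((L.exact_tfae.out 0 3 (a := ∀ S : ShortComplex B, S.ShortExact → (S.map L).ShortExact)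
    (b := PreservesFiniteLimits L ∧ PreservesFiniteColimits L)).1 h).1

end General

variable {X : TopCat.{u}} (U : Opens X)

/-- Extension by zero from an open subspace is left adjoint to restriction. -/
theorem exists_shriek : ∃ (L : CohTop.Ab (TopCat.of U) ⥤ CohTop.Ab X),
    Nonempty (L ⊣ CohTop.restrFunctor U) :=
  have := isContinuous_openFun U
  ⟨(openFun U).sheafPullback AddCommGrpCat.{u} (Opens.grothendieckTopology (TopCat.of U))
      (Opens.grothendieckTopology X),
    ⟨(openFun U).sheafAdjunctionContinuous AddCommGrpCat.{u} (Opens.grothendieckTopology (TopCat.of U))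
      (Opens.grothendieckTopology X)⟩⟩

theorem openFun_top : (openFun U).obj ⊤ = U :=
  Opens.ext (by ext z; exact ⟨fun ⟨z', _, e⟩ => e ▸ z'.2, fun hz => ⟨⟨z, hz⟩, trivial, rfl⟩⟩)

theorem nonempty_HDU_restr [HasDerivedCategory.{u} (CohTop.Ab X)]
    [HasDerivedCategory.{u} (CohTop.Ab (TopCat.of U))]
    [PreservesFiniteLimits (CohTop.restrFunctor U)] [PreservesFiniteColimits (CohTop.restrFunctor U)]
    (K : DerivedCategory (CohTop.Ab X)) (p : ℤ) :
    Nonempty (CohCx.HDU K p U ≃+ CohCx.HDU ((CohTop.restrFunctor U).mapDerivedCategory.obj K) p ⊤) := by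
  obtain ⟨L, ⟨adj⟩⟩ := exists_shriek U
  have : L.Additive := adj.left_adjoint_additive
  have : PreservesColimitsOfSize.{0, 0} L := adj.leftAdjoint_preservesColimits
  have : PreservesFiniteColimits L := PreservesColimitsOfSize.preservesFiniteColimits _
  have : L.PreservesMonomorphisms :=
    preservesMonomorphisms_of_adj adj fun I hI => @LocZ.injective_restr X U I hI
  have : PreservesFiniteLimits L := preservesFiniteLimits_of_mono L
  let G := CohTop.restrFunctor U
  let R := KInj.res (CohTop.Ab X) ⋙ G.mapHomotopyCategory (ComplexShape.up ℤ) ⋙ DerivedCategory.Qh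
  let eR : R ≅ G.mapDerivedCategory :=
    Functor.isoWhiskerLeft _ G.mapDerivedCategoryFactorsh.symm ≪≫ (Functor.associator _ _ _).symm ≪≫
      Functor.isoWhiskerRight (asIso (KInj.resAdj (CohTop.Ab X)).counit) _ ≪≫ Functor.leftUnitor _
  let dadj : L.mapDerivedCategory ⊣ G.mapDerivedCategory := (KInj.derivedAdj adj).ofNatIsoRight eR
  let F₀ := freeY (Opens.grothendieckTopology (TopCat.of U)) (⊤ : Opens (TopCat.of U))
  let F₁ := freeY (Opens.grothendieckTopology X) ((openFun U).obj ⊤)
  let e : ∀ M : CohTop.Ab X, (L.obj F₀ ⟶ M) ≃ (F₁ ⟶ M) := fun M =>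
    (adj.homEquiv F₀ M).trans ((homFreeY (G.obj M) ⊤).toEquiv.trans
      (homFreeY M ((openFun U).obj ⊤)).toEquiv.symm)
  have he : ∀ (M M' : CohTop.Ab X) (a : L.obj F₀ ⟶ M) (g : M ⟶ M'), e M' (a ≫ g) = e M a ≫ g := by
    intro M M' a g
    apply (homFreeY M' ((openFun U).obj ⊤)).injective
    refine (AddEquiv.apply_symm_apply _ _).trans ?_
    refine ((congrArg (homFreeY (G.obj M') ⊤) (adj.homEquiv_naturality_right a g)).trans
      (homFreeY_comp ⊤ _ _)).trans ?_
    refine Eq.trans ?_ (homFreeY_comp _ _ g).symm
    exact congrArg (g.hom.app _).hom (AddEquiv.apply_symm_apply _ _).symm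
  let i : L.obj F₀ ≅ F₁ :=
    { hom := (e F₁).symm (𝟙 F₁)
      inv := e (L.obj F₀) (𝟙 _)
      hom_inv_id := (e (L.obj F₀)).injective (by
        rw [he, Equiv.apply_symm_apply, Category.id_comp])
      inv_hom_id := by rw [← he, Category.id_comp, Equiv.apply_symm_apply] }
  have hU : freeY (Opens.grothendieckTopology X) U = F₁ := by rw [← openFun_top U]
  let s := DerivedCategory.singleFunctor (CohTop.Ab X) 0
  let j : L.mapDerivedCategory.obj
      ((DerivedCategory.singleFunctor (CohTop.Ab (TopCat.of U)) 0).obj F₀) ≅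
        s.obj (freeY (Opens.grothendieckTopology X) U) :=
    (L.mapDerivedCategorySingleFunctor 0).app F₀ ≪≫ s.mapIso (i ≪≫ (eqToIso hU).symm)
  let c := (G.mapDerivedCategory.commShiftIso p).app K
  exact ⟨((AddEquiv.mk' (j.symm.homFromEquiv) (fun a b => Preadditive.comp_add _ _ _ _ _ _)).trans
    (dadj.homAddEquiv _ _)).trans
      (AddEquiv.mk' c.homToEquiv (fun a b => Preadditive.add_comp _ _ _ _ _ _))⟩

end GrothLib.HDU
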