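import Groth.Agent.Lib.HDU.Values
import Mathlib.Topology.Category.TopCat.Opens
import Mathlib.CategoryTheory.Sites.Spaces

/-!
# Derived limits of towers with pointwise eventually constant values
-/

universe w v u u'

open CategoryTheory Limits Pretriangulated DerivedCategory TopologicalSpace

namespace GrothLib.HDU

open GrothLib.SiteDer

variable {A : Type u} [Category.{v} A] [Abelian A] [HasDerivedCategory.{w} A]

/-- A downward closed property which holds near every point holds locally. -/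
lemma locally_of_nhds {X : TopCat.{u'}} {W : Opens X} {P : ∀ ⦃V : Opens X⦄, (V ⟶ W) → Prop}
    (hP : ∀ ⦃V V'⦄ (f : V ⟶ W) (g : V' ⟶ V), P f → P (g ≫ f))
    (h : ∀ x ∈ W, ∃ (V : Opens X) (f : V ⟶ W), x ∈ V ∧ P f) :
    Locally (Opens.grothendieckTopology X) W P :=
  ⟨⟨fun _ f => P f, fun hf g => hP _ g hf⟩, fun x hx => by
    obtain ⟨V, f, hxV, hf⟩ := h x hx
    exact ⟨V, f, hf, hxV⟩, fun _ _ hf => hf⟩

theorem isIso_homology_rlim_pt {X : TopCat.{u'}} {G : Opens X ⥤ A}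
    (hG : SiteDer.IsLocGen (Opens.grothendieckTopology X) G)
    {K : ℕ → DerivedCategory A} {t : ∀ n, K (n + 1) ⟶ K n} [HasProduct K] {L : DerivedCategory A}
    {a : ∀ n, L ⟶ K n} (hL : CohCx.IsRlimVia K t L a) (j : ℤ) (n₀ : ℕ)
    (hconst : ∀ n, n₀ ≤ n → IsIso ((homologyFunctor A j).map (t n)))
    (hgood : ∀ x : X, ∃ n₁ : ℕ, ∀ V : Opens X, x ∈ V →
      ∃ U : Opens X, x ∈ U ∧ U ≤ V ∧ GoodAt t G j n₁ U)
    (n : ℕ) (hn : n₀ ≤ n) : IsIso ((homologyFunctor A j).map (a n)) := by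
  have : Mono ((homologyFunctor A j).map (a n)) := by
    refine hG.mono _ fun U g hg => Locally.of_theta hG g fun W f φ hφ => ?_
    refine locally_of_nhds (fun V V' f k h => by
      rw [G.map_comp, Functor.map_comp, Category.assoc, h, comp_zero]) fun x hx => ?_
    obtain ⟨n₁, hn₁⟩ := hgood x
    obtain ⟨m, hm, hm₁⟩ : ∃ m, n ≤ m ∧ n₁ ≤ m := ⟨max n n₁, le_max_left _ _, le_max_right _ _⟩
    obtain ⟨c, hc, hc'⟩ := exists_iso_homology_rlim hL j n₀ hconst n hn m hm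
    have h0 : theta (φ ≫ a m) = 0 := by
      rw [← cancel_mono c, zero_comp, theta_comp, Category.assoc, hc', hφ, Category.assoc, hg,
        comp_zero]
    obtain ⟨T, hT, hT'⟩ := hG.eq_zero_of_theta _ h0
    obtain ⟨V, d, hd, hxV⟩ := hT x hx
    obtain ⟨U', hxU, hUV, hgU⟩ := hn₁ V hxV
    refine ⟨U', homOfLE hUV ≫ d, hxU, (hgU.bijective hL m hm₁).1 ?_⟩
    change _ ≫ a m = 0 ≫ a m
    rw [Category.assoc, hT' _ (T.downward_closed hd _), zero_comp]
  have : Epi ((homologyFunctor A j).map (a n)) := by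
    refine hG.epi _ fun U g => ?_
    refine locally_of_nhds (fun V V' f k ⟨h, hh⟩ =>
      ⟨G.map k ≫ h, by rw [Category.assoc, hh, G.map_comp, Category.assoc]⟩) fun x hx => ?_
    obtain ⟨n₁, hn₁⟩ := hgood x
    obtain ⟨m, hm, hm₁⟩ : ∃ m, n ≤ m ∧ n₁ ≤ m := ⟨max n n₁, le_max_left _ _, le_max_right _ _⟩
    obtain ⟨c, hc, hc'⟩ := exists_iso_homology_rlim hL j n₀ hconst n hn m hm
    obtain ⟨T, hT, hT'⟩ := hG.exists_theta (g ≫ inv c)
    obtain ⟨V, d, hd, hxV⟩ := hT x hx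
    obtain ⟨U', hxU, hUV, hgU⟩ := hn₁ V hxV
    obtain ⟨ψ, hψ⟩ := hT' _ (T.downward_closed hd (homOfLE hUV))
    obtain ⟨φ, hφ⟩ := (hgU.bijective hL m hm₁).2 ψ
    refine ⟨U', homOfLE hUV ≫ d, hxU, theta φ, ?_⟩
    rw [← hc', ← Category.assoc (theta φ), ← theta_comp, show φ ≫ a m = ψ from hφ, hψ]
    simp
  exact isIso_of_mono_of_epi _

/-- An object is the derived limit of its truncations when, near each point, the local values are
eventually constant. -/
theorem isRlimVia_trunc_pt {X : TopCat.{u'}} {G : Opens X ⥤ A}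
    (hG : SiteDer.IsLocGen (Opens.grothendieckTopology X) G) (E : DerivedCategory A)
    [HasProduct fun n : ℕ => (TStructure.t.truncGE (-(n : ℤ))).obj E]
    (hgood : ∀ (j : ℤ) (x : X), ∃ n₁ : ℕ, ∀ V : Opens X, x ∈ V → ∃ U : Opens X, x ∈ U ∧ U ≤ V ∧
        GoodAt (K := fun n : ℕ => (TStructure.t.truncGE (-(n : ℤ))).obj E)
          (fun n => (TStructure.t.natTransTruncGEOfLE (-((n + 1 : ℕ) : ℤ)) (-(n : ℤ))
            (by omega)).app E) G j n₁ U) :
    CohCx.IsRlimVia (fun n : ℕ => (TStructure.t.truncGE (-(n : ℤ))).obj E)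
      (fun n => (TStructure.t.natTransTruncGEOfLE (-((n + 1 : ℕ) : ℤ)) (-(n : ℤ)) (by omega)).app E)
      E (fun n => (TStructure.t.truncGEπ (-(n : ℤ))).app E) := by
  let K := fun n : ℕ => (TStructure.t.truncGE (-(n : ℤ))).obj E
  let t : ∀ n : ℕ, K (n + 1) ⟶ K n := fun n =>
    (TStructure.t.natTransTruncGEOfLE (-((n + 1 : ℕ) : ℤ)) (-(n : ℤ)) (by omega)).app E
  let one : ∏ᶜ K ⟶ ∏ᶜ K := Pi.lift fun m => Pi.π K m - Pi.π K (m + 1) ≫ t m
  obtain ⟨L, m₁, m₃, hT⟩ := distinguished_cocone_triangle₁ one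
  let a : ∀ n, L ⟶ K n := fun n => m₁ ≫ Pi.π K n
  have ha : Pi.lift a = m₁ := by ext n; simp [a]
  have hL : CohCx.IsRlimVia K t L a := ⟨m₃, by rw [ha]; exact hT⟩
  let b : ∀ n, E ⟶ K n := fun n => (TStructure.t.truncGEπ (-(n : ℤ))).app E
  have hb : Pi.lift b ≫ one = 0 := by
    ext n
    simp [one, b, Preadditive.comp_sub, t, truncπ_comp E n]
  obtain ⟨c, hc⟩ := Triangle.coyoneda_exact₂ _ hT (Pi.lift b) hb
  change E ⟶ L at c
  change Pi.lift b = c ≫ m₁ at hc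
  have hci : IsIso c := by
    rw [DerivedCategory.isIso_iff]
    intro j
    obtain ⟨n, hn⟩ : ∃ n : ℕ, -(n : ℤ) ≤ j := ⟨(-j).toNat, by omega⟩
    have h1 : IsIso ((homologyFunctor A j).map (a n)) :=
      isIso_homology_rlim_pt hG hL j n
        (fun m hm => isIso_homology_truncMap E m j (by omega)) (hgood j) n le_rfl
    have h2 : IsIso ((homologyFunctor A j).map (b n)) :=
      DerTrunc.isIso_homology_truncGEπ E (-(n : ℤ)) j hn
    have e : b n = c ≫ a n := by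
      have := congrArg (fun f => f ≫ Pi.π K n) hc
      simpa [a] using this
    rw [e, Functor.map_comp] at h2
    exact @IsIso.of_isIso_comp_right _ _ _ _ _ _ _ h1 h2
  refine ⟨m₃ ≫ (inv c)⟦(1 : ℤ)⟧', isomorphic_distinguished _ hT _
    (Triangle.isoMk _ _ (@asIso _ _ _ _ c hci) (Iso.refl _) (Iso.refl _) ?_ ?_ ?_)⟩
  · change Pi.lift b ≫ 𝟙 _ = c ≫ m₁
    rw [Category.comp_id, hc]
  · exact (Category.comp_id _).trans (Category.id_comp _).symm
  · change (m₃ ≫ (inv c)⟦(1 : ℤ)⟧') ≫ c⟦(1 : ℤ)⟧' = 𝟙 _ ≫ m₃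
    rw [Category.assoc, ← Functor.map_comp, IsIso.inv_hom_id, CategoryTheory.Functor.map_id, Category.comp_id,
      Category.id_comp]

end GrothLib.HDU
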