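import Groth.Agent.Lib.HDU.Basic
import Groth.Prelude.Def_CohCx
import Mathlib.CategoryTheory.Sites.LocallyBijective
import Mathlib.CategoryTheory.Sites.EpiMono

/-!
# The cohomology presheaf of an object of the derived category and its cohomology sheaf
-/

universe u

open CategoryTheory Limits Opposite HomologicalComplex

namespace GrothLib.HDU

open GrothLib.SheafCoh

variable {C : Type u} [SmallCategory C] {J : GrothendieckTopology C}

/-- Locally, the tautological section of a free sheaf lifts along an epimorphism. -/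
lemma exists_sieve_factor {W : Sheaf J AddCommGrpCat.{u}} {U : C} (p : W ⟶ freeY J U) [Epi p] :
    ∃ S ∈ J U, ∀ (V : C) (f : V ⟶ U), S f → ∃ g : freeY J V ⟶ W, g ≫ p = freeYMap J f := by
  have : Sheaf.IsLocallySurjective p := (Sheaf.isLocallySurjective_iff_epi' (A := AddCommGrpCat.{u}) p).2 inferInstance
  refine ⟨_, Presheaf.imageSieve_mem J p.hom (homFreeY (freeY J U) U (𝟙 _)), fun V f hf => ?_⟩
  obtain ⟨t, ht⟩ := hf
  obtain ⟨g, rfl⟩ := (homFreeY W V).surjective t
  refine ⟨g, (homFreeY _ V).injective ?_⟩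
  rw [homFreeY_comp]
  refine ht.trans ?_
  rw [← homFreeY_map, Category.comp_id]

variable [HasDerivedCategory.{u} (Sheaf J AddCommGrpCat.{u})]

/-- `U ↦ Hom(ℤ[U], L)` in the derived category. -/
noncomputable abbrev homPsh (L : DerivedCategory (Sheaf J AddCommGrpCat.{u})) :
    Cᵒᵖ ⥤ AddCommGrpCat.{u} :=
  (yoneda ⋙ (Functor.whiskeringRight _ _ _).obj AddCommGrpCat.free.{u} ⋙
      presheafToSheaf J AddCommGrpCat.{u} ⋙
      DerivedCategory.singleFunctor (Sheaf J AddCommGrpCat.{u}) 0).op ⋙ preadditiveYoneda.obj L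

/-- The degree-zero cohomology sheaf. -/
noncomputable abbrev H0 (L : DerivedCategory (Sheaf J AddCommGrpCat.{u})) :
    Sheaf J AddCommGrpCat.{u} :=
  (DerivedCategory.homologyFunctor (Sheaf J AddCommGrpCat.{u}) 0).obj L

/-- The class in the cohomology sheaf of a morphism out of a free sheaf. -/
noncomputable def toSec (L : DerivedCategory (Sheaf J AddCommGrpCat.{u})) (U : C) :
    ((DerivedCategory.singleFunctor (Sheaf J AddCommGrpCat.{u}) 0).obj (freeY J U) ⟶ L) →+
      (H0 L).obj.obj (op U) :=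
  AddMonoidHom.mk' (fun f => homFreeY (H0 L) U (h0 f)) (fun f g => by
    erw [h0_add, map_add])

lemma toSec_res (L : DerivedCategory (Sheaf J AddCommGrpCat.{u})) {U V : C} (g : V ⟶ U)
    (f : (DerivedCategory.singleFunctor (Sheaf J AddCommGrpCat.{u}) 0).obj (freeY J U) ⟶ L) :
    toSec L V ((DerivedCategory.singleFunctor _ 0).map (freeYMap J g) ≫ f) =
      ((H0 L).obj.map g.op).hom (toSec L U f) := by
  refine (congrArg (homFreeY (H0 L) V) (h0_map_comp (freeYMap J g) f)).trans ?_
  exact homFreeY_map _ _ _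

lemma toSec_comp {L L' : DerivedCategory (Sheaf J AddCommGrpCat.{u})} (a : L ⟶ L') (U : C)
    (f : (DerivedCategory.singleFunctor (Sheaf J AddCommGrpCat.{u}) 0).obj (freeY J U) ⟶ L) :
    toSec L' U (f ≫ a) = (((DerivedCategory.homologyFunctor _ 0).map a).hom.app (op U)).hom
      (toSec L U f) := by
  refine (congrArg (homFreeY (H0 L') U) (h0_comp f a)).trans ?_
  exact homFreeY_comp U _ _

/-- The canonical map from the cohomology presheaf to the cohomology sheaf. -/
noncomputable def toH0 (L : DerivedCategory (Sheaf J AddCommGrpCat.{u})) :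
    homPsh L ⟶ (H0 L).obj where
  app U := AddCommGrpCat.ofHom (toSec L U.unop)
  naturality U V g := by
    ext f
    exact toSec_res L g.unop f

theorem exists_sieve_zero (L : DerivedCategory (Sheaf J AddCommGrpCat.{u})) (U : C)
    (f : (DerivedCategory.singleFunctor (Sheaf J AddCommGrpCat.{u}) 0).obj (freeY J U) ⟶ L)
    (hf : toSec L U f = 0) :
    ∃ S ∈ J U, ∀ (V : C) (g : V ⟶ U), S g →
      (DerivedCategory.singleFunctor _ 0).map (freeYMap J g) ≫ f = 0 := by
  obtain ⟨I, hI, ⟨e⟩⟩ := exists_kInjective_iso L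
  obtain ⟨z, hz, hfe⟩ := exists_ofCycle_Q
    (f ≫ e.inv : DerivedCategory.Q.obj ((single _ (ComplexShape.up ℤ) 0).obj (freeY J U)) ⟶ _)
  have h1 : h0 (f : DerivedCategory.Q.obj ((single _ (ComplexShape.up ℤ) 0).obj (freeY J U)) ⟶ L) = 0 :=
    (homFreeY (H0 L) U).injective (hf.trans (map_zero _).symm)
  have h2 : h0 (DerivedCategory.Q.map (ofCycle z hz)) = 0 := by
    rw [← hfe, h0_comp, h1, zero_comp]
  have h3 := h0_Q_map_ofCycle z hz
  rw [h2, zero_comp] at h3
  obtain ⟨W, p, hp, t, ht⟩ := exists_boundary_epi z hz h3.symm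
  obtain ⟨S, hS, hlift⟩ := exists_sieve_factor p
  refine ⟨S, hS, fun V g hg => ?_⟩
  obtain ⟨q, hq⟩ := hlift V g hg
  have h4 : freeYMap J g ≫ z = (q ≫ t) ≫ I.d (-1) 0 := by
    rw [← hq, Category.assoc, Category.assoc, ← ht]
  have h5 : DerivedCategory.Q.map ((single _ (ComplexShape.up ℤ) 0).map (freeYMap J g)) ≫
      (f ≫ e.inv : DerivedCategory.Q.obj ((single _ (ComplexShape.up ℤ) 0).obj (freeY J U)) ⟶ _) = 0 := by
    rw [hfe, ← Functor.map_comp, comp_ofCycle]
    simp only [h4]
    exact Q_map_ofCycle_boundary _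
  rw [← cancel_mono e.inv, Category.assoc, zero_comp]
  exact h5

theorem exists_sieve_lift (L : DerivedCategory (Sheaf J AddCommGrpCat.{u})) (U : C)
    (s : (H0 L).obj.obj (op U)) :
    ∃ S ∈ J U, ∀ (V : C) (g : V ⟶ U), S g →
      ∃ f : (DerivedCategory.singleFunctor (Sheaf J AddCommGrpCat.{u}) 0).obj (freeY J V) ⟶ L,
        toSec L V f = ((H0 L).obj.map g.op).hom s := by
  obtain ⟨I, hI, ⟨e⟩⟩ := exists_kInjective_iso L
  obtain ⟨σ, rfl⟩ := (homFreeY (H0 L) U).surjective s
  obtain ⟨W, p, hp, z, hz, hzσ⟩ := exists_lift_epi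
    (σ ≫ (DerivedCategory.homologyFunctor _ 0).map e.inv ≫
      (DerivedCategory.homologyFunctorFactors _ 0).hom.app I)
  obtain ⟨S, hS, hlift⟩ := exists_sieve_factor p
  refine ⟨S, hS, fun V g hg => ?_⟩
  obtain ⟨q, hq⟩ := hlift V g hg
  let φ := DerivedCategory.Q.map (ofCycle (q ≫ z) (by rw [Category.assoc, hz, comp_zero]))
  refine ⟨φ ≫ e.hom, ?_⟩
  rw [← homFreeY_map]
  refine congrArg (homFreeY (H0 L) V) ?_
  have h1 : h0 φ ≫ (DerivedCategory.homologyFunctorFactors _ 0).hom.app I =
      (freeYMap J g ≫ σ) ≫ (DerivedCategory.homologyFunctor _ 0).map e.inv ≫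
        (DerivedCategory.homologyFunctorFactors _ 0).hom.app I := by
    have h6 : I.liftCycles (q ≫ z) 1 (by simp) (by rw [Category.assoc, hz, comp_zero]) =
        q ≫ I.liftCycles z 1 (by simp) hz := by
      rw [← cancel_mono (I.iCycles 0)]
      simp
    refine (h0_Q_map_ofCycle _ _).trans ?_
    refine ((congrArg (fun a => a ≫ I.homologyπ 0) h6).trans (Category.assoc _ _ _)).trans ?_
    refine (congrArg (fun a => q ≫ a) hzσ).trans ?_
    rw [← hq]
    simp only [Category.assoc]
    rfl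
  rw [← Category.assoc (freeYMap J g ≫ σ), cancel_mono] at h1
  refine (h0_comp φ e.hom).trans ?_
  rw [h1, Category.assoc, ← Functor.map_comp, e.inv_hom_id]
  simp

instance isLocallyInjective_toH0 (L : DerivedCategory (Sheaf J AddCommGrpCat.{u})) :
    Presheaf.IsLocallyInjective J (toH0 L) where
  equalizerSieve_mem {U} x y h := by
    let x' : (DerivedCategory.singleFunctor _ 0).obj (freeY J U.unop) ⟶ L := x
    let y' : (DerivedCategory.singleFunctor _ 0).obj (freeY J U.unop) ⟶ L := y
    obtain ⟨S, hS, hz⟩ := exists_sieve_zero L U.unop (x' - y')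
      ((map_sub (toSec L U.unop) _ _).trans (sub_eq_zero.2 h))
    refine J.superset_covering (fun V g hg => ?_) hS
    have := hz V g hg
    rw [Preadditive.comp_sub, sub_eq_zero] at this
    exact this

instance isLocallySurjective_toH0 (L : DerivedCategory (Sheaf J AddCommGrpCat.{u})) :
    Presheaf.IsLocallySurjective J (toH0 L) where
  imageSieve_mem {U} s := by
    obtain ⟨S, hS, hl⟩ := exists_sieve_lift L U s
    refine J.superset_covering (fun V g hg => ?_) hS
    obtain ⟨f, hf⟩ := hl V g hg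
    exact ⟨f, hf⟩

/-- The cohomology presheaf sheafifies to the cohomology sheaf. -/
noncomputable def sheafifyIso (L : DerivedCategory (Sheaf J AddCommGrpCat.{u})) :
    (presheafToSheaf J AddCommGrpCat.{u}).obj (homPsh L) ≅ H0 L :=
  have : IsIso ((presheafToSheaf J AddCommGrpCat.{u}).map (toH0 L)) :=
    (J.W_iff (toH0 L)).1 ((J.W_iff_isLocallyBijective (toH0 L)).2 ⟨inferInstance, inferInstance⟩)
  asIso ((presheafToSheaf J AddCommGrpCat.{u}).map (toH0 L)) ≪≫
    asIso ((sheafificationAdjunction J AddCommGrpCat.{u}).counit.app (H0 L))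

/-- `H^q` of an object of the derived category is `H^0` of its shift. -/
noncomputable def hdIso (K : DerivedCategory (Sheaf J AddCommGrpCat.{u})) (q : ℤ) :
    H0 ((shiftFunctor (DerivedCategory (Sheaf J AddCommGrpCat.{u})) q).obj K) ≅ CohCx.HD K q :=
  ((DerivedCategory.homologyFunctor (Sheaf J AddCommGrpCat.{u}) 0).shiftIso q 0 q (add_zero q)).app K

end GrothLib.HDU
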