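import Groth.Agent.Lib.HDU.LocGen
import Groth.Agent.Lib.SiteDer.LocallyZero
import Groth.Agent.Lib.DerCat.Truncation
import Groth.Agent.Lib.HoCat.Product

/-!
# Values on objects with acyclic cohomology objects
-/

universe w v u

open CategoryTheory Limits Pretriangulated DerivedCategory

namespace GrothLib.HDU

open GrothLib.SiteDer

section Abstract

variable {A : Type u} [Category.{v} A] [Abelian A] [HasDerivedCategory.{w} A]

lemma theta_id (X : A) (j : ℤ) :
    theta (𝟙 ((singleFunctor A j).obj X)) = (singleFunctorCompHomologyFunctorIso A j).inv.app X := by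
  simp [theta]

theorem theta_bijective_single (X M : A) (j : ℤ) :
    Function.Bijective (fun φ : (singleFunctor A j).obj X ⟶ (singleFunctor A j).obj M => theta φ) := by
  have h : ∀ a : X ⟶ M, theta ((singleFunctor A j).map a) =
      a ≫ (singleFunctorCompHomologyFunctorIso A j).inv.app M := fun a => by
    rw [← theta_id, ← theta_map_comp, Category.comp_id]
  constructor
  · intro φ ψ hφ
    obtain ⟨a, rfl⟩ := (singleFunctor A j).map_surjective φ
    obtain ⟨b, rfl⟩ := (singleFunctor A j).map_surjective ψ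
    replace hφ : theta ((singleFunctor A j).map a) = theta ((singleFunctor A j).map b) := hφ
    rw [h, h] at hφ
    erw [cancel_mono] at hφ
    rw [hφ]
  · intro σ
    refine ⟨(singleFunctor A j).map (σ ≫ (singleFunctorCompHomologyFunctorIso A j).hom.app M), ?_⟩
    refine (h _).trans ?_
    rw [Category.assoc, Iso.hom_inv_id_app]
    exact Category.comp_id σ

lemma theta_bijective_of_iso {X : A} {E E' : DerivedCategory A} {j : ℤ} (a : E ⟶ E')
    (ha : IsIso ((homologyFunctor A j).map a))
    (hb : Function.Bijective (fun φ : (singleFunctor A j).obj X ⟶ E => φ ≫ a))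
    (h : Function.Bijective (fun φ : (singleFunctor A j).obj X ⟶ E' => theta φ)) :
    Function.Bijective (fun φ : (singleFunctor A j).obj X ⟶ E => theta φ) := by
  have e : (fun φ : (singleFunctor A j).obj X ⟶ E' => theta φ) ∘
      (fun φ : (singleFunctor A j).obj X ⟶ E => φ ≫ a) =
        (fun σ : X ⟶ (homologyFunctor A j).obj E => σ ≫ (homologyFunctor A j).map a) ∘
          (fun φ : (singleFunctor A j).obj X ⟶ E => theta φ) := by
    funext φ
    exact theta_comp φ a
  have hc : Function.Bijective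
      (fun σ : X ⟶ (homologyFunctor A j).obj E => σ ≫ (homologyFunctor A j).map a) :=
    ((asIso ((homologyFunctor A j).map a)).homToEquiv).bijective
  exact (Function.Bijective.of_comp_iff' hc _).1 (e ▸ h.comp hb)

theorem theta_bijective_of_isGE (X : A) (j : ℤ) (E : DerivedCategory A) [E.IsGE j] :
    Function.Bijective (fun φ : (singleFunctor A j).obj X ⟶ E => theta φ) := by
  let T := (TStructure.t.triangleLTGE (j + 1)).obj E
  have hT : T ∈ distTriang _ := TStructure.t.triangleLTGE_distinguished (j + 1) E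
  let Z := (TStructure.t.truncGE (j + 1)).obj E
  have hZ : Z.IsGE (j + 1) := inferInstanceAs (TStructure.t.IsGE Z (j + 1))
  let W := (TStructure.t.truncLT (j + 1)).obj E
  have hι : ∀ q, q ≤ j → IsIso ((homologyFunctor A q).map ((TStructure.t.truncLTι (j + 1)).app E)) :=
    fun q hq => DerTrunc.isIso_homology_truncLTι E (j + 1) q (by omega)
  have hW : W.IsGE j := (DerivedCategory.isGE_iff W j).2 fun q hq =>
    have := hι q (by omega)
    (DerivedCategory.isZero_of_isGE E j q hq).of_iso
      (asIso ((homologyFunctor A q).map ((TStructure.t.truncLTι (j + 1)).app E)))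
  have hW' : W.IsLE j := (DerivedCategory.isLE_iff W j).2 fun q hq =>
    DerTrunc.isZero_homology_truncLT E (j + 1) q (by omega)
  have hb : Function.Bijective
      (fun φ : (singleFunctor A j).obj X ⟶ W => φ ≫ (TStructure.t.truncLTι (j + 1)).app E) :=
    bijective_comp_of_cone hT _
      (fun φ => TStructure.t.zero_of_isLE_of_isGE φ j (j + 1) (by omega) inferInstance hZ)
      (fun φ => TStructure.t.zero_of_isLE_of_isGE φ (j - 1) (j + 1) (by omega)
        (TStructure.t.isLE_shift _ j 1 (j - 1) (by omega)) hZ)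
  obtain ⟨e⟩ := DerTrunc.nonempty_iso_single W j
  have hW2 : Function.Bijective (fun φ : (singleFunctor A j).obj X ⟶ W => theta φ) :=
    theta_bijective_of_iso e.hom inferInstance (e.homToEquiv).bijective (theta_bijective_single X _ j)
  have hι' : IsIso ((homologyFunctor A j).map ((TStructure.t.truncLTι (j + 1)).app E)) := hι j le_rfl
  have e2 : (fun φ : (singleFunctor A j).obj X ⟶ E => theta φ) ∘
      (fun φ : (singleFunctor A j).obj X ⟶ W => φ ≫ (TStructure.t.truncLTι (j + 1)).app E) =
        (fun σ : X ⟶ (homologyFunctor A j).obj W =>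
          σ ≫ (homologyFunctor A j).map ((TStructure.t.truncLTι (j + 1)).app E)) ∘
          (fun φ : (singleFunctor A j).obj X ⟶ W => theta φ) := by
    funext φ
    exact theta_comp φ _
  have hc : Function.Bijective (fun σ : X ⟶ (homologyFunctor A j).obj W =>
      σ ≫ (homologyFunctor A j).map ((TStructure.t.truncLTι (j + 1)).app E)) :=
    ((asIso ((homologyFunctor A j).map ((TStructure.t.truncLTι (j + 1)).app E))).homToEquiv).bijective
  exact (Function.Bijective.of_comp_iff _ hb).1 (e2 ▸ hc.comp hW2)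

/-- Maps from a single object acyclic for the lower cohomology objects detect a cohomology class. -/
theorem theta_bijective_of_vanish (X : A) (j a : ℤ) (E : DerivedCategory A) [E.IsGE a]
    (h : ∀ (k q : ℤ), (k = j ∨ k = j + 1) → q < j →
      ∀ ψ : (singleFunctor A k).obj X ⟶ (singleFunctor A q).obj ((homologyFunctor A q).obj E), ψ = 0) :
    Function.Bijective (fun φ : (singleFunctor A j).obj X ⟶ E => theta φ) := by
  let W := (TStructure.t.truncLT j).obj E
  let Z := (TStructure.t.truncGE j).obj E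
  have hZ : Z.IsGE j := inferInstanceAs (TStructure.t.IsGE Z j)
  have hι : ∀ q, q < j → IsIso ((homologyFunctor A q).map ((TStructure.t.truncLTι j).app E)) :=
    fun q hq => DerTrunc.isIso_homology_truncLTι E j q hq
  have hW : W.IsGE a := (DerivedCategory.isGE_iff W a).2 fun q hq => by
    by_cases hqj : q < j
    · have := hι q hqj
      exact (DerivedCategory.isZero_of_isGE E a q hq).of_iso
        (asIso ((homologyFunctor A q).map ((TStructure.t.truncLTι j).app E)))
    · exact DerTrunc.isZero_homology_truncLT E j q (by omega)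
  have hv : ∀ k, (k = j ∨ k = j + 1) → ∀ φ : (singleFunctor A k).obj X ⟶ W, φ = 0 := fun k hk =>
    eq_zero_of_isGE' X k a W fun q _ _ ψ => by
      by_cases hqj : q < j
      · have := hι q hqj
        rw [← cancel_mono ((singleFunctor A q).map
          ((homologyFunctor A q).map ((TStructure.t.truncLTι j).app E))), zero_comp]
        exact h k q hk hqj _
      · exact ((singleFunctor A q).map_isZero
          (DerTrunc.isZero_homology_truncLT E j q (by omega))).eq_of_tgt _ _
  have hW1 : ∀ φ : (singleFunctor A j).obj X ⟶ (shiftFunctor (DerivedCategory A) (1 : ℤ)).obj W,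
      φ = 0 := fun φ => by
    obtain ⟨ψ, hψ⟩ := (shiftFunctor (DerivedCategory A) (1 : ℤ)).map_surjective
      ((((singleFunctors A).shiftIso 1 j (j + 1) (by omega)).app X).hom ≫ φ)
    rw [hv (j + 1) (Or.inr rfl) ψ, Functor.map_zero] at hψ
    rw [← cancel_epi (((singleFunctors A).shiftIso 1 j (j + 1) (by omega)).app X).hom, comp_zero]
    exact hψ.symm
  have hb : Function.Bijective
      (fun φ : (singleFunctor A j).obj X ⟶ E => φ ≫ (TStructure.t.truncGEπ j).app E) := by
    refine bijective_comp_of_cone (rot_of_distTriang _ (TStructure.t.triangleLTGE_distinguished j E)) _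
      hW1 fun φ => ?_
    obtain ⟨ψ, hψ⟩ := (shiftFunctor (DerivedCategory A) (1 : ℤ)).map_surjective
      (X := (singleFunctor A j).obj X) (Y := W) φ
    rw [← hψ, hv j (Or.inl rfl) ψ, Functor.map_zero]
    rfl
  exact theta_bijective_of_iso _ (DerTrunc.isIso_homology_truncGEπ E j j le_rfl) hb
    (theta_bijective_of_isGE X j Z)

end Abstract

open GrothLib.SheafCoh Opposite

variable {C : Type u} [SmallCategory C] {J : GrothendieckTopology C}
  [HasDerivedCategory.{u} (Sheaf J AddCommGrpCat.{u})]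

/-- Values on a covering class of objects with acyclic cohomology sheaves. -/
theorem theta_bijective_of_acyclic (K : DerivedCategory (Sheaf J AddCommGrpCat.{u})) (B : Set C)
    (hB : ∀ U : C, ∃ (ι : Type u) (Y : ι → C) (f : ∀ i, Y i ⟶ U), Sieve.ofArrows Y f ∈ J U ∧ ∀ i, Y i ∈ B)
    (h : ∀ U ∈ B, ∀ (p : ℕ) (q : ℤ), Subsingleton (CohSite.HU (CohCx.HD K q) (p + 1) U))
    (U : C) (hU : U ∈ B) (j : ℤ) :
    Function.Bijective
      (fun φ : (singleFunctor (Sheaf J AddCommGrpCat.{u}) j).obj (freeY J U) ⟶ K => theta φ) := by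
  let E := fun n : ℕ => (TStructure.t.truncGE (-(n : ℤ))).obj K
  have : HasProduct E :=
    (HoCat.derivedCategory_hasLimitsOfShape (A := Sheaf J AddCommGrpCat.{u}) ℕ).has_limit _
  let t : ∀ n : ℕ, E (n + 1) ⟶ E n := fun n =>
    (TStructure.t.natTransTruncGEOfLE (-((n + 1 : ℕ) : ℤ)) (-(n : ℤ)) (by omega)).app K
  let n₁ : ℕ := (max 0 (-j) + 1).toNat
  have hgood : ∀ (j : ℤ) (V : C), V ∈ B →
      GoodAt t (freeYFunctor J) j (max 0 (-j) + 1).toNat V := fun j V hV =>
    goodAt_trunc K j 0 _ (by omega) V fun m _ q k hk hk0 => by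
      obtain ⟨p, rfl⟩ : ∃ p : ℕ, k = p + 1 := ⟨k - 1, by omega⟩
      exact h V hV p q
  have hL := isRlimVia_trunc (J := J) (isLocGen_free J) K B hB fun V hV j' => by
    refine ⟨(max 0 (-j') + 1).toNat, fun T hT => ?_⟩
    choose ι YY f hf hY using hB
    refine ⟨Σ a : Σ V' : C, {g : V' ⟶ V // T g}, ι a.1, fun i => YY i.1.1 i.2,
      fun i => f i.1.1 i.2 ≫ i.1.2.1, fun i => T.downward_closed i.1.2.2 _, ?_,
      fun i => hgood j' _ (hY _ i.2)⟩
    refine J.transitive hT _ fun V' g hg => J.superset_covering ?_ (hf V')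
    rw [Sieve.ofArrows, Sieve.generate_le_iff]
    rintro W _ ⟨i⟩
    exact Sieve.ofArrows_mk (I := Σ a : Σ V' : C, {g : V' ⟶ V // T g}, ι a.1)
      (fun i => YY i.1.1 i.2) (fun i => f i.1.1 i.2 ≫ i.1.2.1) ⟨⟨V', g, hg⟩, i⟩
  have hbij := (hgood j U hU).bijective hL n₁ le_rfl
  have hπ : ∀ q, -(n₁ : ℤ) ≤ q →
      IsIso ((homologyFunctor _ q).map ((TStructure.t.truncGEπ (-(n₁ : ℤ))).app K)) :=
    fun q hq => DerTrunc.isIso_homology_truncGEπ K _ q hq
  have : (E n₁).IsGE (-(n₁ : ℤ)) := isGE_truncTower K n₁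
  refine theta_bijective_of_iso ((TStructure.t.truncGEπ (-(n₁ : ℤ))).app K) (hπ j (by omega)) hbij
    (theta_bijective_of_vanish _ j (-(n₁ : ℤ)) (E n₁) fun k q hk hq ψ => ?_)
  by_cases hqn : -(n₁ : ℤ) ≤ q
  · have := hπ q hqn
    rw [← cancel_mono ((singleFunctor _ q).map
      (inv ((homologyFunctor _ q).map ((TStructure.t.truncGEπ (-(n₁ : ℤ))).app K)))), zero_comp]
    obtain ⟨p, hp⟩ : ∃ p : ℕ, k - q = ((p + 1 : ℕ) : ℤ) := ⟨(k - q - 1).toNat, by omega⟩
    exact eq_zero_of_HU _ U k q (p + 1) hp (h U hU p q) _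
  · exact ((singleFunctor _ q).map_isZero
      (DerTrunc.isZero_homology_truncGE K _ q (by omega))).eq_of_tgt _ _

/-- Shifting keeps acyclicity of cohomology sheaves. -/
theorem nonempty_addEquiv_of_acyclic (K : DerivedCategory (Sheaf J AddCommGrpCat.{u})) (B : Set C)
    (hB : ∀ U : C, ∃ (ι : Type u) (Y : ι → C) (f : ∀ i, Y i ⟶ U), Sieve.ofArrows Y f ∈ J U ∧ ∀ i, Y i ∈ B)
    (h : ∀ U ∈ B, ∀ (p : ℕ) (q : ℤ), Subsingleton (CohSite.HU (CohCx.HD K q) (p + 1) U))
    (U : C) (hU : U ∈ B) (q : ℤ) :
    Nonempty (CohCx.HDU K q U ≃+ (CohCx.HD K q).obj.obj (op U)) := by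
  let K' := (shiftFunctor (DerivedCategory (Sheaf J AddCommGrpCat.{u})) q).obj K
  have h' : ∀ U ∈ B, ∀ (p : ℕ) (r : ℤ), Subsingleton (CohSite.HU (CohCx.HD K' r) (p + 1) U) :=
    fun V hV p r =>
      let e : CohCx.HD K' r ≅ CohCx.HD K (q + r) :=
        ((homologyFunctor (Sheaf J AddCommGrpCat.{u}) 0).shiftIso q r (q + r) rfl).app K
      have := h V hV p (q + r)
      (((Sheaf.cohomologyPresheafFunctor J (p + 1)).mapIso e).app (op V)).addCommGroupIsoToAddEquiv.toEquiv.subsingleton
  let f : ((singleFunctor (Sheaf J AddCommGrpCat.{u}) 0).obj (freeY J U) ⟶ K') →+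
      (H0 K').obj.obj (op U) :=
    AddMonoidHom.mk' (fun φ => homFreeY (H0 K') U (theta φ)) (fun a b => by
      rw [← map_add]
      congr 1
      simp [theta])
  exact ⟨(AddEquiv.ofBijective f ((homFreeY (H0 K') U).bijective.comp
    (theta_bijective_of_acyclic K' B hB h' U hU 0))).trans
      (((sheafToPresheaf J AddCommGrpCat.{u}).mapIso (hdIso K q)).app (op U)).addCommGroupIsoToAddEquiv⟩

end GrothLib.HDU
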